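import Groth.Agent.Misc15.RatTorus.Generic
import Groth.Agent.Reductive.FreeDiagDescent
import Groth.Agent.Reductive.BaseChangeMT
import Groth.Agent.AlgGrp2.DiagBaseChange
import Groth.Prelude.Def_TwC

/-!
Scheme level: split tori from split forms, and rationality.
-/

set_option autoImplicit false
set_option linter.style.haveILetI false

universe u

open CategoryTheory MonoidalCategory CartesianMonoidalCategory MonObj AlgebraicGeometry TensorProduct Opposite
open Groth.AlgGrp2

noncomputable section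

namespace Groth.Misc15.RatTorus

variable {k : Type u} [Field k]

/-- An isotrivial torus over a field is split by a field extension. -/
theorem exists_split_field {T : Over (Spec (CommRingCat.of k))} [GrpObj T] {r : ℕ}
    (hT : TwC.Locally (Spec (CommRingCat.of k)) .finiteEtale
      (fun S' g => Red.IsSplitTorusWith (Fin r → ℤ) (Red.bc g T))) :
    ∃ (L : Type u) (_ : Field L) (_ : Algebra k L), Red.IsSplitTorusWith (Fin r → ℤ) (Red.bc (str k L) T) := by
  obtain ⟨S', f, -, -, hsurj, hloc⟩ := hT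
  obtain ⟨s', -⟩ := f.surjective (⟨⊥, Ideal.isPrime_bot⟩ : PrimeSpectrum k)
  obtain ⟨U, hU, -, ⟨e⟩⟩ := hloc s'
  let L := S'.residueField s'
  let q := S'.fromSpecResidueField s'
  obtain ⟨c, hc⟩ : ∃ c : CommRingCat.of k ⟶ L, Spec.map c = q ≫ f := ⟨_, Spec.map_preimage _⟩
  letI : Algebra k L := c.hom.toAlgebra
  have hrange : Set.range q.base ⊆ Set.range U.ι.base := by
    rw [Scheme.Opens.range_ι, Scheme.range_fromSpecResidueField]
    exact Set.singleton_subset_iff.2 hU
  let e' : Red.DS (U : Scheme.{u}) (Fin r → ℤ) ≅ Red.bc (U.ι ≫ f) T := (Grp.forget _).mapIso e.symm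
  haveI : IsMonHom e'.hom := inferInstanceAs (IsMonHom e.inv.hom.hom)
  obtain ⟨i, hi⟩ := Groth.Reductive.FreeDiag.exists_trivialisation_comp T (IsOpenImmersion.lift U.ι q hrange) (U.ι ≫ f) e'
  have heq : IsOpenImmersion.lift U.ι q hrange ≫ U.ι ≫ f = str k L := by
    rw [IsOpenImmersion.lift_fac_assoc, ← hc]
    rfl
  revert i
  rw [heq]
  intro i hi
  haveI := hi
  exact ⟨L, inferInstance, inferInstance, ⟨(Grp.mkIso' i).symm⟩⟩

section Forms

variable {E : Type u} [Field E] [Algebra k E]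

local instance braidedAlgSpecHere (R : Type u) [CommRing R] : (algSpec (CommRingCat.of R)).Braided :=
  braidedAlgSpec

/-- a split form gives a split torus -/
theorem isSplit_bc_sp {A N : Type u} [CommRing A] [HopfAlgebra k A] [CommGroup N] {r : ℕ}
    (eN : N ≃* Multiplicative (Fin r → ℤ)) (e : E ⊗[k] A ≃ₐc[E] MonoidAlgebra E N) :
    Red.IsSplitTorusWith (Fin r → ℤ) (Red.bc (str k E) (CoactBr.sp k A)) := by
  let D := MonoidAlgebra E (Multiplicative (Fin r → ℤ))
  let d : E ⊗[k] A ≃ₐc[E] D := e.trans (BialgEquiv.ofBijective (MonoidAlgebra.mapDomainBialgHom E eN.toMonoidHom)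
    (by
      refine Function.bijective_iff_has_inverse.2
        ⟨MonoidAlgebra.mapDomainBialgHom E eN.symm.toMonoidHom, fun x => ?_, fun x => ?_⟩ <;>
      induction x using MonoidAlgebra.induction_on with
      | of m =>
        show MonoidAlgebra.mapDomain _ (MonoidAlgebra.mapDomain _ (MonoidAlgebra.single m (1 : E))) = MonoidAlgebra.single m 1
        simp
      | add p q hp hq => simp only [map_add, hp, hq]
      | smul c p hp => simp only [map_smul, hp]))
  let dA : E ⊗[k] A ≃ₐ[E] D := d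
  -- the pullback square
  have hP : IsPullback (Spec.map (CommRingCat.ofHom
        ((Algebra.TensorProduct.includeRight : A →ₐ[k] E ⊗[k] A) : A →+* E ⊗[k] A)))
      (Spec.map (CommRingCat.ofHom (algebraMap E (E ⊗[k] A))))
      (Spec.map (CommRingCat.ofHom (algebraMap k A))) (str k E) := by
    letI : Algebra A (E ⊗[k] A) := Algebra.TensorProduct.rightAlgebra
    exact isPullback_SpecMap_of_isPushout _ _ _ _ (CommRingCat.isPushout_of_isPushout k A E (E ⊗[k] A))
  let i1 : CoactBr.sp E D ≅ CoactBr.sp E (E ⊗[k] A) :=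
    { hom := CoactBr.pt (dA : E ⊗[k] A →ₐ[E] D)
      inv := CoactBr.pt (dA.symm : D →ₐ[E] E ⊗[k] A)
      hom_inv_id := by rw [← CoactBr.pt_comp, AlgEquiv.comp_symm, CoactBr.pt_id]
      inv_hom_id := by rw [← CoactBr.pt_comp, AlgEquiv.symm_comp, CoactBr.pt_id] }
  let i2 : CoactBr.sp E (E ⊗[k] A) ≅ Red.bc (str k E) (CoactBr.sp k A) :=
    Over.isoMk hP.isoPullback hP.isoPullback_hom_snd
  let j : Red.diag E (Fin r → ℤ) ≅ Red.bc (str k E) (CoactBr.sp k A) := i1 ≪≫ i2
  let δ : A →ₐ[k] D := ((dA : E ⊗[k] A →ₐ[E] D).restrictScalars k).comp Algebra.TensorProduct.includeRight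
  have h2 : affPt k i2.hom =
      CoactBr.pt (Algebra.TensorProduct.includeRight : A →ₐ[k] E ⊗[k] A) := by
    ext1
    show 𝟙 _ ≫ (((Over.mapPullbackAdj (str k E)).homEquiv _ _).symm i2.hom).left = _
    rw [Category.id_comp]
    simp only [Over.mapPullbackAdj, Adjunction.mkOfHomEquiv_homEquiv, Equiv.coe_fn_symm_mk]
    exact hP.isoPullback_hom_fst
  have haff : affPt k j.hom = CoactBr.pt δ := by
    show affPt k (CoactBr.pt (dA : E ⊗[k] A →ₐ[E] D) ≫ i2.hom) = _
    rw [affPt_comp, h2, ← CoactBr.pt_comp]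
  haveI : IsMonHom j.hom := by
    refine isMonHom_of_pt (R := E) (A := D) j.hom fun g h => ?_
    obtain ⟨φ, rfl⟩ := pt_surjective g
    obtain ⟨ψ, rfl⟩ := pt_surjective h
    apply affPt_injective (R := k)
    rw [affPt_mul, CoactBr.pt_mul_pt, affPt_comp, affPt_comp, affPt_comp, haff, ← CoactBr.pt_comp,
      ← CoactBr.pt_comp, ← CoactBr.pt_comp, CoactBr.pt_mul_pt]
    congr 1
    refine AlgHom.ext fun x => ?_
    obtain ρ := Coalgebra.Repr.arbitrary k x
    have hcom : Coalgebra.comul (R := E) (δ x) =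
        ∑ i ∈ ρ.index, δ (ρ.left i) ⊗ₜ[E] δ (ρ.right i) := by
      show Coalgebra.comul (R := E) (d ((1 : E) ⊗ₜ x)) = _
      rw [← CoalgHomClass.map_comp_comul_apply]
      rw [TensorProduct.comul_tmul, CommSemiring.comul_apply, ← ρ.eq]
      simp [TensorProduct.tmul_sum, map_sum]
      rfl
    simp [Bialgebra.comulAlgHom_apply, hcom, ← ρ.eq, map_sum]
  exact ⟨(Grp.mkIso' j).symm ≪≫ (isSplitTorusWith_diag E (Fin r → ℤ)).some⟩

/-- a split form gives an isotrivial torus -/
theorem locally_sp [FiniteDimensional k E] [IsGalois k E] {A N : Type u} [CommRing A] [HopfAlgebra k A]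
    [CommGroup N] {r : ℕ} (eN : N ≃* Multiplicative (Fin r → ℤ)) (e : E ⊗[k] A ≃ₐc[E] MonoidAlgebra E N) :
    TwC.Locally (Spec (CommRingCat.of k)) .finiteEtale
      (fun S' g => Red.IsSplitTorusWith (Fin r → ℤ) (Red.bc g (CoactBr.sp k A))) := by
  haveI : Algebra.FormallyEtale k E := Algebra.FormallyEtale.of_isSeparable k E
  haveI : Algebra.FinitePresentation k E := Algebra.FinitePresentation.of_finiteType.1 inferInstance
  haveI : Algebra.Etale k E := ⟨inferInstance, inferInstance⟩
  refine ⟨Spec (CommRingCat.of E), str k E, ?_, ?_, ⟨fun x => ⟨default, Subsingleton.elim (α := PrimeSpectrum k) _ _⟩⟩,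
    fun s' => ⟨⊤, trivial, isClosed_univ, ?_⟩⟩
  · exact (IsFinite.SpecMap_iff _).2 (RingHom.finite_algebraMap.2 inferInstance)
  · exact (HasRingHomProperty.Spec_iff (P := @Etale)).2 (RingHom.etale_algebraMap.2 inferInstance)
  obtain ⟨e'⟩ := isSplit_bc_sp eN e
  let e'' : Red.DS (Spec (CommRingCat.of E)) (Fin r → ℤ) ≅ Red.bc (str k E) (CoactBr.sp k A) :=
    (Grp.forget _).mapIso e'.symm
  haveI : IsMonHom e''.hom := inferInstanceAs (IsMonHom e'.inv.hom.hom)
  obtain ⟨i, hi⟩ := Groth.Reductive.FreeDiag.exists_trivialisation_comp (CoactBr.sp k A)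
    (⊤ : (Spec (CommRingCat.of E)).Opens).ι (str k E) e''
  haveI := hi
  exact ⟨(Grp.mkIso' i).symm⟩

/-- rationality from a birational model -/
theorem isRationalOver_tensor {T : Over (Spec (CommRingCat.of k))} {A B : Type u} [CommRing A] [Algebra k A]
    [CommRing B] [Algebra k B] (iT : CoactBr.sp k A ≅ T) {q : ℕ}
    (h : Scheme.BirationalOver (Spec.map (CommRingCat.ofHom (algebraMap k (A ⊗[k] B))))
      (Spec.map (CommRingCat.ofHom (algebraMap k (MvPolynomial (Fin q) k))))) :
    Scheme.IsRationalOver (T ⊗ CoactBr.sp k B).hom := by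
  let i : CoactBr.sp k (A ⊗[k] B) ≅ T ⊗ CoactBr.sp k B :=
    (Functor.Monoidal.μIso (algSpec (CommRingCat.of k)) (op (.of k A)) (op (.of k B))).symm ≪≫
      MonoidalCategory.whiskerRightIso iT (CoactBr.sp k B)
  let il := (Over.forget _).mapIso i
  have h1 : Scheme.BirationalOver (T ⊗ CoactBr.sp k B).hom
      (Spec.map (CommRingCat.ofHom (algebraMap k (A ⊗[k] B)))) :=
    Scheme.BirationalOver.symm (Scheme.Hom.birationalOver il.hom _ _ (Over.w i.hom))
  let n := ULift.{u} (Fin q)
  let ψ := (MvPolynomial.renameEquiv k (Equiv.ulift.{u} (α := Fin q))).toRingEquiv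
  let w : Spec (CommRingCat.of (MvPolynomial (Fin q) k)) ⟶ 𝔸(n; Spec (CommRingCat.of k)) :=
    Spec.map (CommRingCat.ofHom (ψ : MvPolynomial n k →+* MvPolynomial (Fin q) k)) ≫
      (AffineSpace.SpecIso n (CommRingCat.of k)).inv
  haveI : IsIso (Spec.map (CommRingCat.ofHom (ψ : MvPolynomial n k →+* MvPolynomial (Fin q) k))) :=
    inferInstanceAs (IsIso (Spec.map ψ.toCommRingCatIso.hom))
  have h2 : Scheme.BirationalOver (Spec.map (CommRingCat.ofHom (algebraMap k (MvPolynomial (Fin q) k))))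
      (𝔸(n; Spec (CommRingCat.of k)) ↘ Spec (CommRingCat.of k)) := by
    refine Scheme.Hom.birationalOver w _ _ ?_
    simp only [w, Category.assoc, AffineSpace.SpecIso_inv_over, ← Spec.map_comp, ← CommRingCat.ofHom_comp]
    congr 2
    exact RingHom.ext fun c => (MvPolynomial.renameEquiv k (Equiv.ulift.{u} (α := Fin q))).commutes c
  exact ⟨⟨n, (h1.trans h).trans h2⟩⟩

end Forms

end Groth.Misc15.RatTorus
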