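import Mathlib

/-!
Domains of finite type over a field with the same fraction field have birational spectra.
-/

set_option autoImplicit false
set_option linter.style.haveILetI false

universe u

open CategoryTheory AlgebraicGeometry

noncomputable section

namespace Groth.Misc15.RatTorus

variable {k F : Type u} [Field k] [Field F] [Algebra k F] {O P : Type u} [CommRing O] [Algebra k O]
  [CommRing P] [Algebra k P]

theorem exists_den [Algebra.FiniteType k P] (f : O →ₐ[k] F) (g : P →ₐ[k] F)
    (h : ∀ p, ∃ a b : O, f b ≠ 0 ∧ g p * f b = f a) :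
    ∃ d : O, f d ≠ 0 ∧ ∀ p, ∃ (N : ℕ) (a : O), g p * f d ^ N = f a := by
  classical
  obtain ⟨gens, hgens⟩ := (Algebra.FiniteType.out (R := k) (A := P) : (⊤ : Subalgebra k P).FG)
  choose a b hb hab using h
  refine ⟨∏ p ∈ gens, b p, by rw [map_prod]; exact Finset.prod_ne_zero_iff.2 fun p _ => hb p, fun x => ?_⟩
  have hx : x ∈ Algebra.adjoin k (gens : Set P) := hgens ▸ Algebra.mem_top
  induction hx using Algebra.adjoin_induction with
  | mem p hp =>
    refine ⟨1, a p * ∏ y ∈ gens.erase p, b y, ?_⟩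
    rw [pow_one, ← Finset.mul_prod_erase gens b hp, map_mul, map_mul, ← hab, mul_assoc]
  | algebraMap r => exact ⟨0, algebraMap k O r, by rw [pow_zero, mul_one, g.commutes, f.commutes]⟩
  | add x y _ _ hx hy =>
    obtain ⟨N, r, h⟩ := hx
    obtain ⟨N', r', h'⟩ := hy
    refine ⟨N + N', r * (∏ p ∈ gens, b p) ^ N' + r' * (∏ p ∈ gens, b p) ^ N, ?_⟩
    simp only [map_add, map_mul, map_pow, ← h, ← h']
    ring
  | mul x y _ _ hx hy =>
    obtain ⟨N, r, h⟩ := hx
    obtain ⟨N', r', h'⟩ := hy
    refine ⟨N + N', r * r', ?_⟩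
    simp only [map_mul, ← h, ← h']
    ring

theorem range_away (f : O →ₐ[k] F) {δ : O} (h : ∀ y : Submonoid.powers δ, IsUnit (f y)) (x : F) :
    x ∈ (IsLocalization.liftAlgHom (M := Submonoid.powers δ) (S := Localization.Away δ) h).range ↔
      ∃ (N : ℕ) (a : O), x * f δ ^ N = f a := by
  constructor
  · rintro ⟨z, rfl⟩
    obtain ⟨⟨a, _, N, rfl⟩, hz⟩ := IsLocalization.surj (Submonoid.powers δ) z
    refine ⟨N, a, ?_⟩
    have := congrArg (IsLocalization.liftAlgHom (M := Submonoid.powers δ) (S := Localization.Away δ) h) hz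
    simpa [IsLocalization.coe_liftAlgHom, IsLocalization.lift_eq] using this
  · rintro ⟨N, a, hx⟩
    refine ⟨IsLocalization.mk' (Localization.Away δ) a (⟨δ ^ N, N, rfl⟩ : Submonoid.powers δ), ?_⟩
    refine ((h (⟨δ ^ N, N, rfl⟩ : Submonoid.powers δ)).mul_left_injective) ?_
    show _ * f (δ ^ N) = x * f (δ ^ N)
    rw [map_pow, hx]
    have := congrArg (IsLocalization.liftAlgHom (M := Submonoid.powers δ) (S := Localization.Away δ) h)
      (IsLocalization.mk'_spec (Localization.Away δ) a (⟨δ ^ N, N, rfl⟩ : Submonoid.powers δ))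
    simpa [IsLocalization.coe_liftAlgHom, IsLocalization.lift_eq] using this

theorem injective_away [IsDomain O] {f : O →ₐ[k] F} (hf : Function.Injective f) {δ : O}
    (h : ∀ y : Submonoid.powers δ, IsUnit (f y)) :
    Function.Injective (IsLocalization.liftAlgHom (M := Submonoid.powers δ) (S := Localization.Away δ) h) := by
  rw [IsLocalization.coe_liftAlgHom]
  exact (IsLocalization.lift_injective_iff _).2 fun a b => by
    have hδ : δ ≠ 0 := fun h0 => (h ⟨δ, 1, pow_one δ⟩).ne_zero (by simp [h0])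
    rw [(IsLocalization.injective (Localization.Away δ)
      (powers_le_nonZeroDivisors_of_noZeroDivisors hδ : Submonoid.powers δ ≤ _)).eq_iff]
    exact hf.eq_iff.symm

theorem exists_away_equiv [IsDomain O] [IsDomain P] [Algebra.FiniteType k O] [Algebra.FiniteType k P]
    (f : O →ₐ[k] F) (hf : Function.Injective f) (g : P →ₐ[k] F) (hg : Function.Injective g)
    (hfg : ∀ p, ∃ a b : O, f b ≠ 0 ∧ g p * f b = f a)
    (hgf : ∀ o, ∃ a b : P, g b ≠ 0 ∧ f o * g b = g a) :
    ∃ (δ : O) (ε : P), δ ≠ 0 ∧ ε ≠ 0 ∧ Nonempty (Localization.Away δ ≃ₐ[k] Localization.Away ε) := by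
  obtain ⟨d, hd, hP⟩ := exists_den f g hfg
  obtain ⟨e, he, hO⟩ := exists_den g f hgf
  obtain ⟨N, a, ha⟩ := hP e
  have ha0 : f a ≠ 0 := ha ▸ mul_ne_zero he (pow_ne_zero _ hd)
  obtain ⟨M, c, hc⟩ := hO (d * a)
  rw [map_mul] at hc
  have hc0 : g c ≠ 0 := hc ▸ mul_ne_zero (mul_ne_zero hd ha0) (pow_ne_zero _ he)
  have hδ : ∀ y : Submonoid.powers (d * a), IsUnit (f y) := by
    rintro ⟨_, i, rfl⟩
    simpa using (pow_ne_zero i (mul_ne_zero hd ha0))
  have hε : ∀ y : Submonoid.powers (e * c), IsUnit (g y) := by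
    rintro ⟨_, i, rfl⟩
    simpa using (pow_ne_zero i (mul_ne_zero he hc0))
  have heq : (IsLocalization.liftAlgHom (M := Submonoid.powers (d * a)) (S := Localization.Away (d * a)) hδ).range =
      (IsLocalization.liftAlgHom (M := Submonoid.powers (e * c)) (S := Localization.Away (e * c)) hε).range := by
    ext x
    rw [range_away f hδ, range_away g hε]
    constructor
    · rintro ⟨n, a', hx⟩
      obtain ⟨K, b, hb⟩ := hO a'
      refine ⟨n + K, b * e ^ (M * n + n) * c ^ K, ?_⟩
      simp only [map_mul, map_pow, ← hb, ← hx, ← hc]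
      ring
    · rintro ⟨n, b, hx⟩
      obtain ⟨K, a', hb⟩ := hP b
      refine ⟨n + (M + 1) * n + K, a' * d ^ (N * ((M + 1) * n) + (M + 1) * n) * a ^ K, ?_⟩
      rw [map_mul g e c, ← hc] at hx
      simp only [map_mul, map_pow, ← hb, ← hx, ← ha]
      ring
  exact ⟨d * a, e * c, fun h => mul_ne_zero hd ha0 (by rw [← map_mul, h, map_zero]),
    fun h => mul_ne_zero he hc0 (by rw [← map_mul, h, map_zero]),
    ⟨((AlgEquiv.ofInjective _ (injective_away hf hδ)).trans (Subalgebra.equivOfEq _ _ heq)).trans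
      (AlgEquiv.ofInjective _ (injective_away hg hε)).symm⟩⟩

/-- Domains of finite type with the same fraction field are birational. -/
theorem birationalOver_spec [IsDomain O] [IsDomain P] [Algebra.FiniteType k O] [Algebra.FiniteType k P]
    (f : O →ₐ[k] F) (hf : Function.Injective f) (g : P →ₐ[k] F) (hg : Function.Injective g)
    (hfg : ∀ p, ∃ a b : O, f b ≠ 0 ∧ g p * f b = f a)
    (hgf : ∀ o, ∃ a b : P, g b ≠ 0 ∧ f o * g b = g a) :
    Scheme.BirationalOver (Spec.map (CommRingCat.ofHom (algebraMap k O)))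
      (Spec.map (CommRingCat.ofHom (algebraMap k P))) := by
  obtain ⟨δ, ε, hδ, hε, ⟨ψ⟩⟩ := exists_away_equiv f hf g hg hfg hgf
  have hdom : ∀ {R : Type u} [CommRing R] [IsDomain R] (r : R) (_ : r ≠ 0),
      IsOpenImmersion (Spec.map (CommRingCat.ofHom (algebraMap R (Localization.Away r)))) ∧
      IsDominant (Spec.map (CommRingCat.ofHom (algebraMap R (Localization.Away r)))) := by
    intro R _ _ r hr
    haveI := IsOpenImmersion.of_isLocalization (S := Localization.Away r) r
    refine ⟨inferInstance, ⟨?_⟩⟩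
    haveI : Nontrivial (Localization.Away r) :=
      (IsLocalization.injective (Localization.Away r) (powers_le_nonZeroDivisors_of_noZeroDivisors hr : Submonoid.powers r ≤ _)).nontrivial
    obtain ⟨x⟩ : Nonempty (PrimeSpectrum (Localization.Away r)) := inferInstance
    haveI : IrreducibleSpace (PrimeSpectrum R) := inferInstance
    exact IsOpen.dense (X := PrimeSpectrum R) (Spec.map (CommRingCat.ofHom (algebraMap R (Localization.Away r)))).isOpenEmbedding.isOpen_range
      ⟨_, x, rfl⟩
  obtain ⟨h1, h2⟩ := hdom δ hδ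
  obtain ⟨h3, h4⟩ := hdom ε hε
  let jO := Spec.map (CommRingCat.ofHom (algebraMap O (Localization.Away δ)))
  let jP := Spec.map (CommRingCat.ofHom (algebraMap P (Localization.Away ε)))
  let i := Spec.map (CommRingCat.ofHom (ψ.symm : Localization.Away ε →+* Localization.Away δ))
  haveI : IsIso i := inferInstanceAs (IsIso (Spec.map (ψ.symm.toRingEquiv.toCommRingCatIso).hom))
  let sU := Spec.map (CommRingCat.ofHom (algebraMap k (Localization.Away δ)))
  refine ((jO.birationalOver _ sU ?_).symm).trans ((i ≫ jP).birationalOver _ sU ?_)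
  · rw [← Spec.map_comp, ← CommRingCat.ofHom_comp, ← IsScalarTower.algebraMap_eq]
  · rw [Category.assoc, ← Spec.map_comp, ← CommRingCat.ofHom_comp, ← IsScalarTower.algebraMap_eq,
      ← Spec.map_comp, ← CommRingCat.ofHom_comp]
    congr 2
    exact RingHom.ext fun x => ψ.symm.commutes x

end Groth.Misc15.RatTorus
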