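import Groth.Agent.Sga3.DescendHopf
import Groth.Agent.GaloisBrauer.Descent

/-!
The twisted form of a group algebra attached to a Galois action on the group.
-/

set_option autoImplicit false
set_option linter.style.haveILetI false

universe u

open TensorProduct MonoidAlgebra

noncomputable section

namespace Groth.Misc15.RatTorus

open Groth.Sga3.Descend Groth.Sga3.GroupAlg

variable {k E : Type u} [Field k] [Field E] [Algebra k E] {N : Type u} [CommGroup N]

/-- semilinear automorphism of the group algebra -/
def galAlg (ρ : (E ≃ₐ[k] E) →* (N ≃* N)) (g : E ≃ₐ[k] E) : MonoidAlgebra E N ≃+* MonoidAlgebra E N :=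
  (MonoidAlgebra.mapRingEquiv N g.toRingEquiv).trans (MonoidAlgebra.mapDomainRingEquiv E (ρ g))

theorem galAlg_single (ρ : (E ≃ₐ[k] E) →* (N ≃* N)) (g : E ≃ₐ[k] E) (m : N) (c : E) :
    galAlg ρ g (single m c) = single (ρ g m) (g c) := by
  simp [galAlg]

/-- evaluation of `E ⊗ E` at an automorphism -/
def chi (g : E ≃ₐ[k] E) : E ⊗[k] E →ₐ[k] E := Algebra.TensorProduct.productMap (AlgHom.id k E) g.toAlgHom

theorem chi_tmul (g : E ≃ₐ[k] E) (a b : E) : chi g (a ⊗ₜ b) = a * g b := by simp [chi]

variable (k E) in
/-- `E ⊗ E` to functions on the Galois group -/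
def theta : E ⊗[k] E →ₐ[k] ((E ≃ₐ[k] E) → E) := AlgHom.pi chi

theorem bijective_theta [FiniteDimensional k E] [IsGalois k E] : Function.Bijective (theta k E) := by
  let T : (E ≃ₐ[k] E) → ((E ≃ₐ[k] E) → E) →+ ((E ≃ₐ[k] E) → E) := fun g =>
    AddMonoidHom.mk' (fun f h => g (f (g⁻¹ * h))) fun a b => funext fun h => map_add g _ _
  let ι : E →ₗ[k] ((E ≃ₐ[k] E) → E) := LinearMap.pi fun g => g.toLinearMap
  have hι : ∀ c g, ι c g = g c := fun _ _ => rfl
  have hb := Groth.GaloisBrauer.liftBaseChange_bijective (M := (E ≃ₐ[k] E) → E) T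
    (fun x => funext fun h => by simp [T])
    (fun g g' x => funext fun h => by
      show (g * g') (x ((g * g')⁻¹ * h)) = g (g' (x (g'⁻¹ * (g⁻¹ * h))))
      rw [mul_inv_rev, mul_assoc]
      rfl)
    (fun g c x => funext fun h => by simp [T])
    ι (fun a b h => (hι a 1).symm.trans ((congrFun h 1).trans (hι b 1)))
    (fun x => ⟨by
      rintro ⟨c, rfl⟩ g
      funext h
      show g (ι c (g⁻¹ * h)) = ι c h
      rw [hι, hι, ← AlgEquiv.mul_apply, mul_inv_cancel_left],
      fun hx => ⟨x 1, funext fun g => by
        have := congrFun (hx g) g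
        simp only [T, AddMonoidHom.mk'_apply, inv_mul_cancel] at this
        exact this⟩⟩)
  have heq : ⇑(theta k E) = ⇑(ι.liftBaseChange E) := funext fun z => by
    induction z using TensorProduct.induction_on with
    | zero => simp
    | add a b ha hb => simp only [map_add, ha, hb]
    | tmul a b => funext g; simp [theta, chi_tmul, hι]
  rw [heq]
  exact hb

variable [FiniteDimensional k E] [IsGalois k E]

theorem ext_chi {z w : E ⊗[k] E} (h : ∀ g, chi g z = chi g w) : z = w :=
  bijective_theta.1 (funext h)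

theorem ext_chi_mp {x y : MonoidAlgebra (E ⊗[k] E) N}
    (h : ∀ g : E ≃ₐ[k] E, mp (chi g : E ⊗[k] E →+* E) x = mp (chi g : E ⊗[k] E →+* E) y) : x = y :=
  ext_cf fun m => ext_chi fun g => by
    have := congrArg (cf m) (h g)
    rwa [cf_mp, cf_mp] at this

theorem eq_zero_of_chi3 {z : E ⊗[k] (E ⊗[k] E)}
    (h : ∀ g f : E ≃ₐ[k] E, chi g (Algebra.TensorProduct.map (AlgHom.id k E) (chi f) z) = 0) : z = 0 := by
  classical
  have h1 : ∀ f : E ≃ₐ[k] E, Algebra.TensorProduct.map (AlgHom.id k E) (chi f) z = 0 := fun f =>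
    ext_chi fun g => by rw [h, map_zero]
  have h2 : TensorProduct.piRight k k E (fun _ : E ≃ₐ[k] E => E)
      ((theta k E).toLinearMap.lTensor E z) = 0 := by
    funext f
    refine Eq.trans ?_ (h1 f)
    clear h h1
    induction z using TensorProduct.induction_on with
    | zero => simp
    | add a b ha hb => simp only [map_add, Pi.add_apply, ha, hb]
    | tmul a b => simp [theta]
  rw [LinearEquiv.map_eq_zero_iff] at h2
  exact (Module.Flat.lTensor_preserves_injective_linearMap (M := E) (theta k E).toLinearMap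
    bijective_theta.1) (h2.trans (map_zero _).symm)

variable (ρ : (E ≃ₐ[k] E) →* (N ≃* N))

/-- the idempotents of `E ⊗ E` -/
def idem (g : E ≃ₐ[k] E) : E ⊗[k] E := by
  classical
  exact (AlgEquiv.ofBijective (theta k E) bijective_theta).symm (Pi.single g 1)

theorem chi_idem [DecidableEq (E ≃ₐ[k] E)] (g h : E ≃ₐ[k] E) : chi h (idem g) = if h = g then 1 else 0 := by
  have := congrFun ((AlgEquiv.ofBijective (theta k E) bijective_theta).apply_symm_apply (Pi.single g (1 : E))) h
  rw [Pi.single_apply] at this
  rw [← this]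
  unfold idem
  show chi h _ = chi h _
  congr!

theorem mp_sum_idem (h : E ≃ₐ[k] E) (f : (E ≃ₐ[k] E) → N) :
    mp (chi h : E ⊗[k] E →+* E) (∑ g, single (f g) (idem g)) = single (f h) 1 := by
  classical
  rw [map_sum, Finset.sum_eq_single h]
  · rw [MonoidAlgebra.mapRingHom_single]
    congr 1
    exact (chi_idem h h).trans (if_pos rfl)
  · intro g _ hg
    rw [MonoidAlgebra.mapRingHom_single, show (chi h : E ⊗[k] E →+* E) (idem g) = 0 from
      (chi_idem g h).trans (if_neg hg.symm), MonoidAlgebra.single_zero]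
  · simp

/-- the gluing of the twisted form -/
def glue : N →* MonoidAlgebra (E ⊗[k] E) N where
  toFun m := ∑ g, single (ρ g⁻¹ m) (idem g)
  map_one' := ext_chi_mp fun h => by rw [mp_sum_idem, map_one, map_one]; rfl
  map_mul' a b := ext_chi_mp fun h => by
    rw [map_mul, mp_sum_idem, mp_sum_idem, mp_sum_idem, map_mul, MonoidAlgebra.single_mul_single, one_mul]

theorem mp_glue (h : E ≃ₐ[k] E) (m : N) :
    mp (chi h : E ⊗[k] E →+* E) (glue ρ m) = single (ρ h⁻¹ m) 1 :=
  mp_sum_idem h fun g => ρ g⁻¹ m

/-- the descent datum of a Galois action -/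
def datum : Datum k E N where
  g := glue ρ
  gl m := by
    classical
    refine isGroupLikeElem_sum (fun g => ρ g⁻¹ m) (c := idem) ?_
    refine ⟨⟨fun g => ext_chi fun h => ?_, fun g g' hg => ext_chi fun h => ?_⟩, ext_chi fun h => ?_⟩
    · rw [map_mul, chi_idem]
      split_ifs <;> simp
    · rw [map_mul, chi_idem, chi_idem, map_zero]
      split_ifs with h1 h2
      · exact absurd (h1.symm.trans h2) hg
      all_goals simp
    · rw [map_sum, map_one]
      simp only [chi_idem]
      simp
  coc m := ext_cf fun n => sub_eq_zero.1 (eq_zero_of_chi3 fun g f => by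
    rw [map_sub, map_sub, sub_eq_zero]
    let φ : E ⊗[k] (E ⊗[k] E) →+* E :=
      ((chi g).comp (Algebra.TensorProduct.map (AlgHom.id k E) (chi f)) : E ⊗[k] (E ⊗[k] E) →ₐ[k] E)
    have h12 : φ.comp (j12 k E) = chi g := RingHom.ext fun t => by
      induction t using TensorProduct.induction_on with
      | zero => simp
      | add a b ha hb => simp only [map_add, ha, hb]
      | tmul a b => simp [φ, chi_tmul]
    have h13 : φ.comp (j13 k E) = chi (g * f) := RingHom.ext fun t => by
      induction t using TensorProduct.induction_on with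
      | zero => simp
      | add a b ha hb => simp only [map_add, ha, hb]
      | tmul a b => simp [φ, chi_tmul]
    have h23 : φ.comp (j23 k E) = (g : E →+* E).comp (chi f : E ⊗[k] E →+* E) := RingHom.ext fun t => by
      induction t using TensorProduct.induction_on with
      | zero => simp
      | add a b ha hb => simp only [map_add, ha, hb]
      | tmul a b => simp [φ, chi_tmul]
    show φ _ = φ _
    rw [← cf_mp, ← cf_mp]
    refine congrArg (cf n) ?_
    rw [mp_act, h23, mp_mp, mp_mp, h12, h13, mp_glue, mp_glue, act_single, ← mp_mp, mp_glue,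
      MonoidAlgebra.mapRingHom_single, mul_inv_rev, map_mul]
    simp)
  unit m := by
    have h : (mu k E) = (chi (1 : E ≃ₐ[k] E) : E ⊗[k] E →+* E) := RingHom.ext fun t => by
      induction t using TensorProduct.induction_on with
      | zero => simp
      | add a b ha hb => simp only [map_add, ha, hb]
      | tmul a b => simp [chi_tmul]
    rw [h, mp_glue, inv_one, map_one]
    rfl

theorem galAlg_mem_A {a : MonoidAlgebra E N} (ha : a ∈ (datum ρ).A) (g : E ≃ₐ[k] E) : galAlg ρ g a = a := by
  have h := congrArg (mp (chi g : E ⊗[k] E →+* E)) ((datum ρ).mem_A.1 ha)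
  have h1 : (chi g : E ⊗[k] E →+* E).comp (ι₁ k E) = RingHom.id E := RingHom.ext fun a => by simp [chi_tmul]
  have h2 : (chi g : E ⊗[k] E →+* E).comp (ι₂ k E) = (g : E →+* E) := RingHom.ext fun a => by simp [chi_tmul]
  rw [(datum ρ).mp_θ, mp_mp, mp_mp, h1, h2, mp_id] at h
  have h3 : ∀ y, act (chi g : E ⊗[k] E →+* E) (datum ρ).g y = MonoidAlgebra.mapDomainRingEquiv E (ρ g⁻¹) y := by
    intro y
    induction y using MonoidAlgebra.induction_linear with
    | zero => simp
    | add a b ha hb => simp only [map_add, ha, hb]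
    | single m r =>
      rw [show single m r = r • single m (1 : E) by simp, map_smul, act_single,
        show (datum ρ).g m = glue ρ m from rfl, mp_glue]
      simp
  rw [h3] at h
  show MonoidAlgebra.mapDomainRingEquiv E (ρ g) (mp (g : E →+* E) a) = a
  rw [← h]
  clear h ha
  induction a using MonoidAlgebra.induction_linear with
  | zero => simp
  | add p q hp hq => simp only [map_add, hp, hq]
  | single m r => simp

variable (k E N) in
/-- A split form of a group algebra on whose base change the Galois group acts by `galAlg`. -/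
structure SplitForm (ρ : (E ≃ₐ[k] E) →* (N ≃* N)) where
  /-- the ring -/
  A : Type u
  [ring : CommRing A]
  [hopf : HopfAlgebra k A]
  /-- the splitting -/
  e : E ⊗[k] A ≃ₐc[E] MonoidAlgebra E N
  fixed : ∀ g a, galAlg ρ g (e ((1 : E) ⊗ₜ a)) = e ((1 : E) ⊗ₜ a)

attribute [instance] SplitForm.ring SplitForm.hopf

/-- The descended form. -/
def splitForm : SplitForm k E N ρ :=
  letI := (datum ρ).hopfAlgebra
  { A := (datum ρ).A
    e := (datum ρ).μc
    fixed := fun g a => by
      have : ((datum ρ).μc ((1 : E) ⊗ₜ a) : MonoidAlgebra E N) = a := by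
        show (datum ρ).μ ((1 : E) ⊗ₜ a) = _
        rw [Datum.μ_tmul, one_smul]
      rw [this]
      exact galAlg_mem_A ρ a.2 g }

end Groth.Misc15.RatTorus
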