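import Groth.Agent.GaloisBrauer.Descent
import Mathlib

/-!
Fixed elements of a field with semilinear Galois action, generated by fixed elements.
-/

set_option autoImplicit false
set_option linter.style.haveILetI false

universe u

namespace Groth.Misc15.RatTorus

variable {k E F : Type u} [Field k] [Field E] [Algebra k E] [FiniteDimensional k E] [IsGalois k E]
  [Field F] [Algebra k F] [Algebra E F] [IsScalarTower k E F]
  (T : (E ≃ₐ[k] E) →* (F ≃+* F)) (hT : ∀ g c, T g (algebraMap E F c) = algebraMap E F (g c))

include hT in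
omit [FiniteDimensional k E] [IsGalois k E] in
theorem semilinear (g : E ≃ₐ[k] E) (c : E) (x : F) : T g (c • x) = g c • T g x := by
  rw [Algebra.smul_def, Algebra.smul_def, map_mul, hT]

include hT in
/-- Fixed elements are ratios of the generating fixed ring. -/
theorem exists_ratio {B : Type u} [CommRing B] [Algebra k B] (f : B →ₐ[k] F)
    (hf : ∀ g b, T g (f b) = f b) (hgen : IntermediateField.adjoin E (Set.range f) = ⊤)
    {x : F} (hx : ∀ g, T g x = x) : ∃ a b : B, f b ≠ 0 ∧ x * f b = f a := by
  classical
  obtain ⟨r, hr, s, hs, hxrs⟩ := IntermediateField.mem_adjoin_iff_div.1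
    (hgen ▸ IntermediateField.mem_top : x ∈ IntermediateField.adjoin E (Set.range f))
  -- fixed elements of the span of the range
  have hclos : ∀ y ∈ Submonoid.closure (Set.range f), y ∈ Set.range f := fun y hy => by
    induction hy using Submonoid.closure_induction with
    | mem z hz => exact hz
    | one => exact ⟨1, map_one f⟩
    | mul a b _ _ ha hb =>
      obtain ⟨a, rfl⟩ := ha
      obtain ⟨b, rfl⟩ := hb
      exact ⟨a * b, map_mul f a b⟩
  have hspan : ∀ {y}, y ∈ Algebra.adjoin E (Set.range f) ↔ y ∈ Submodule.span E (Set.range f) := fun {y} => by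
    rw [← Subalgebra.mem_toSubmodule, Algebra.adjoin_eq_span_of_subset (R := E) (s := Set.range f) fun z hz => Submodule.subset_span (hclos z hz)]
  have hstab : ∀ g {y}, y ∈ Algebra.adjoin E (Set.range f) → T g y ∈ Algebra.adjoin E (Set.range f) := by
    intro g y hy
    rw [hspan] at hy ⊢
    induction hy using Submodule.span_induction with
    | mem z hz =>
      obtain ⟨b, rfl⟩ := hz
      rw [hf]
      exact Submodule.subset_span ⟨b, rfl⟩
    | zero => rw [map_zero]; exact Submodule.zero_mem _
    | add a b _ _ ha hb => rw [map_add]; exact Submodule.add_mem _ ha hb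
    | smul c a _ ha => rw [semilinear T hT]; exact Submodule.smul_mem _ _ ha
  obtain ⟨θ, hθ⟩ := Algebra.trace_surjective k E (1 : k)
  have hfixed : ∀ y ∈ Algebra.adjoin E (Set.range f), (∀ g, T g y = y) → ∃ b, f b = y := by
    intro y hy hfix
    obtain ⟨c, hc⟩ := Finsupp.mem_span_range_iff_exists_finsupp.1 (hspan.1 hy)
    refine ⟨∑ i ∈ c.support, algebraMap k B (Algebra.trace k E (θ * c i)) * i, ?_⟩
    calc f (∑ i ∈ c.support, algebraMap k B (Algebra.trace k E (θ * c i)) * i)
        = ∑ i ∈ c.support, algebraMap E F (algebraMap k E (Algebra.trace k E (θ * c i))) * f i := by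
          rw [map_sum]
          exact Finset.sum_congr rfl fun i _ => by
            rw [map_mul, AlgHom.commutes, ← IsScalarTower.algebraMap_apply]
      _ = ∑ g : E ≃ₐ[k] E, T g (θ • y) := by
          simp only [trace_eq_sum_automorphisms, map_sum, Finset.sum_mul]
          rw [Finset.sum_comm]
          refine Finset.sum_congr rfl fun g _ => ?_
          rw [← hc, Finsupp.sum, Finset.smul_sum, map_sum]
          refine Finset.sum_congr rfl fun i _ => ?_
          rw [smul_smul, semilinear T hT, hf, Algebra.smul_def]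
      _ = y := by
          simp only [semilinear T hT, hfix, ← Finset.sum_smul]
          rw [← trace_eq_sum_automorphisms, hθ, map_one, one_smul]
  by_cases hs0 : s = 0
  · exact ⟨0, 1, by rw [map_one]; exact one_ne_zero, by simp [hxrs, hs0]⟩
  let s' := ∏ g : E ≃ₐ[k] E, T g s
  have hs'mem : s' ∈ Algebra.adjoin E (Set.range f) := prod_mem fun g _ => hstab g hs
  have hs'fix : ∀ g, T g s' = s' := fun g => by
    rw [map_prod]
    exact Fintype.prod_equiv (Equiv.mulLeft g) _ _ fun h => (RingEquiv.ext_iff.1 (map_mul T g h) s).symm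
  have hs'0 : s' ≠ 0 := Finset.prod_ne_zero_iff.2 fun g _ => (map_ne_zero_iff _ (T g).injective).2 hs0
  have hxs' : x * s' ∈ Algebra.adjoin E (Set.range f) := by
    rw [show s' = T 1 s * ∏ g ∈ Finset.univ.erase (1 : E ≃ₐ[k] E), T g s from
      (Finset.mul_prod_erase _ _ (Finset.mem_univ _)).symm, map_one, ← mul_assoc,
      show x * (1 : F ≃+* F) s = r from by rw [hxrs]; exact div_mul_cancel₀ r hs0]
    exact mul_mem hr (prod_mem fun g _ => hstab g hs)
  obtain ⟨b, hb⟩ := hfixed s' hs'mem hs'fix
  obtain ⟨a, ha⟩ := hfixed (x * s') hxs' fun g => by rw [map_mul, hx, hs'fix]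
  exact ⟨a, b, by rw [hb]; exact hs'0, by rw [hb, ha]⟩

include hT in
/-- A stable span has a basis of fixed elements. -/
theorem exists_fixed_gens {X : Type u} [Fintype X] (y : X → F)
    (hy : ∀ g x, T g (y x) ∈ Submodule.span E (Set.range y)) :
    ∃ (q : ℕ) (v : Fin q → F), q ≤ Fintype.card X ∧ (∀ g i, T g (v i) = v i) ∧
      ∀ x, y x ∈ Submodule.span E (Set.range v) := by
  classical
  let V := Submodule.span E (Set.range y)
  have hV : ∀ g, ∀ z ∈ V, T g z ∈ V := by
    intro g z hz
    induction hz using Submodule.span_induction with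
    | mem z hz => obtain ⟨x, rfl⟩ := hz; exact hy g x
    | zero => rw [map_zero]; exact Submodule.zero_mem _
    | add a b _ _ ha hb => rw [map_add]; exact Submodule.add_mem _ ha hb
    | smul c a _ ha => rw [semilinear T hT]; exact Submodule.smul_mem _ _ ha
  let TV : (E ≃ₐ[k] E) → ↥V →+ ↥V := fun g => AddMonoidHom.mk' (fun z => ⟨T g z.1, hV g _ z.2⟩)
    fun a b => Subtype.ext (map_add (T g) a.1 b.1)
  have htop := Groth.GaloisBrauer.span_fixed_eq_top TV
    (fun z => Subtype.ext (RingEquiv.ext_iff.1 (map_one T) z.1))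
    (fun g g' z => Subtype.ext (RingEquiv.ext_iff.1 (map_mul T g g') z.1))
    (fun g c z => Subtype.ext (semilinear T hT g c z.1))
  haveI : FiniteDimensional E V := FiniteDimensional.span_of_finite E (Set.finite_range y)
  obtain ⟨s, hsb, hspan, hli⟩ := exists_linearIndependent E {z : ↥V | ∀ g, TV g z = z}
  haveI : Fintype s := hli.setFinite.fintype
  refine ⟨Fintype.card s, fun i => ((Fintype.equivFin s).symm i).1.1, ?_, fun g i => ?_, fun x => ?_⟩
  · calc Fintype.card s ≤ Module.finrank E V := hli.fintype_card_le_finrank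
      _ ≤ Fintype.card X := finrank_range_le_card y
  · exact congrArg Subtype.val (hsb ((Fintype.equivFin s).symm i).2 g)
  · have hmem : (⟨y x, Submodule.subset_span ⟨x, rfl⟩⟩ : ↥V) ∈ Submodule.span E s := by
      rw [hspan, htop]; exact Submodule.mem_top
    have := Submodule.mem_map_of_mem (f := V.subtype) hmem
    rw [Submodule.map_span] at this
    refine Submodule.span_mono ?_ this
    rintro _ ⟨z, hz, rfl⟩
    exact ⟨Fintype.equivFin s ⟨z, hz⟩, by simp⟩

omit [FiniteDimensional k E] [IsGalois k E] in
/-- A small generating family is algebraically independent. -/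
theorem algebraicIndependent_of_gen {ι X : Type u} [Fintype ι] [Fintype X] (v : ι → F) (z : X → F)
    (hz : AlgebraicIndependent E z) (hle : Fintype.card ι ≤ Fintype.card X)
    (hgen : IntermediateField.adjoin E (Set.range v) = ⊤) : AlgebraicIndependent E v := by
  haveI : Algebra.IsAlgebraic (Algebra.adjoin E (Set.range v)) F := ⟨fun x => by
    obtain ⟨r, hr, s, hs, hx⟩ := IntermediateField.mem_adjoin_iff_div.1
      (hgen ▸ IntermediateField.mem_top : x ∈ IntermediateField.adjoin E (Set.range v))
    by_cases hs0 : s = 0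
    · rw [hx, hs0, div_zero]
      exact isAlgebraic_zero
    refine ⟨Polynomial.C ⟨s, hs⟩ * Polynomial.X - Polynomial.C ⟨r, hr⟩, ?_, ?_⟩
    · intro h
      have := congrArg (fun p => Polynomial.coeff p 1) h
      simp [Polynomial.coeff_X, Polynomial.coeff_C] at this
      exact hs0 (congrArg Subtype.val this)
    · simp only [map_sub, map_mul, Polynomial.aeval_C, Polynomial.aeval_X]
      show s * x - r = 0
      rw [hx, mul_div_cancel₀ _ hs0, sub_self]⟩
  refine (Algebra.IsAlgebraic.isTranscendenceBasis_of_le_trdeg_of_finite E v ?_).1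
  exact le_trans (by simpa [Cardinal.mk_fintype] using hle) hz.cardinalMk_le_trdeg

end Groth.Misc15.RatTorus
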