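import Groth.Agent.Misc15.RatTorus.Section
import Groth.Agent.Misc15.RatTorus.Fixed
import Groth.Agent.Misc15.RatTorus.Birational

/-!
A lift through an open of affine space makes the product with an auxiliary twisted form rational.
-/

set_option autoImplicit false
set_option linter.style.haveILetI false

universe u

open TensorProduct CategoryTheory AlgebraicGeometry

noncomputable section

namespace Groth.Misc15.RatTorus

/-- shift of functions on a set with an action -/
abbrev sh {G X : Type u} [Group G] [MulAction G X] (g : G) (q : X → ℤ) : X → ℤ := fun x => q (g⁻¹ • x)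

/-- The induced action on the kernel of an equivariant retraction. -/
theorem exists_ker_action {G : Type u} [Group G] {N X : Type u} [CommGroup N] [Fintype X] [MulAction G X]
    (ρ : G →* (N ≃* N)) (i : Additive N →+ (X → ℤ)) (r : (X → ℤ) →+ Additive N) (hri : ∀ m, r (i m) = m)
    (hi : ∀ (g : G) (m : N) (x : X), i (Additive.ofMul (ρ g m)) x = i (Additive.ofMul m) (g⁻¹ • x)) :
    ∃ (N₁ : Type u) (_ : CommGroup N₁) (r₁ : ℕ) (_ : N₁ ≃* Multiplicative (Fin r₁ → ℤ))
      (ρ₁ : G →* (N₁ ≃* N₁)) (pr : Multiplicative (X → ℤ) →* N₁) (inc : N₁ →* Multiplicative (X → ℤ)),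
      (∀ n, pr (inc n) = n) ∧ (∀ m, pr (Multiplicative.ofAdd (i m)) = 1) ∧
      (∀ g q, ρ₁ g (pr q) = pr (Multiplicative.ofAdd (sh g q.toAdd))) ∧
      ∀ q, q = Multiplicative.ofAdd (i (r q.toAdd)) * inc (pr q) := by
  let rL : (X → ℤ) →ₗ[ℤ] Additive N := r.toIntLinearMap
  let K := LinearMap.ker rL
  haveI : Module.Free ℤ K := inferInstance
  haveI : Module.Finite ℤ K := inferInstance
  let pr : (X → ℤ) →+ K := AddMonoidHom.mk' (fun q => ⟨q - i (r q), by
    rw [LinearMap.mem_ker]
    show r (q - i (r q)) = 0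
    rw [map_sub, hri, sub_self]⟩) fun a b => Subtype.ext (by
      show (a + b) - i (r (a + b)) = (a - i (r a)) + (b - i (r b))
      rw [map_add, map_add]; abel)
  have hpr : ∀ q, (pr q : X → ℤ) = q - i (r q) := fun q => rfl
  have hprK : ∀ n : K, pr n = n := fun n => Subtype.ext (by
    rw [hpr, show r n = 0 from LinearMap.mem_ker.1 n.2, map_zero, sub_zero])
  have hpri : ∀ m, pr (i m) = 0 := fun m => Subtype.ext (by rw [hpr, hri, sub_self]; rfl)
  have hshi : ∀ (g : G) m, sh g (i m) = i (Additive.ofMul (ρ g m.toMul)) := fun g m =>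
    funext fun x => (hi g m.toMul x).symm
  have hsh : ∀ (g : G) q, pr (sh g (pr q : X → ℤ)) = pr (sh g q) := fun g q => by
    have : sh g (pr q : X → ℤ) = sh g q - sh g (i (r q)) := rfl
    rw [this, map_sub, hshi, hpri, sub_zero]
  let act : G → (K →+ K) := fun g => AddMonoidHom.mk' (fun n => pr (sh g (n : X → ℤ))) fun a b => by
    rw [← map_add]; rfl
  have hact1 : ∀ n, act 1 n = n := fun n => by
    show pr (sh 1 (n : X → ℤ)) = n
    rw [show sh (1 : G) (n : X → ℤ) = n from funext fun x => by simp [sh], hprK]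
  have hactm : ∀ g g' n, act (g * g') n = act g (act g' n) := fun g g' n => by
    show pr (sh (g * g') (n : X → ℤ)) = pr (sh g (pr (sh g' (n : X → ℤ)) : X → ℤ))
    rw [hsh]
    exact congrArg pr (funext fun x => by simp [sh, mul_smul])
  let ρ₁ : G →* (Multiplicative K ≃* Multiplicative K) := MonoidHom.mk'
    (fun g => AddEquiv.toMultiplicative
      { toFun := act g, invFun := act g⁻¹
        left_inv := fun n => by rw [← hactm, inv_mul_cancel, hact1]
        right_inv := fun n => by rw [← hactm, mul_inv_cancel, hact1]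
        map_add' := map_add (act g) })
    fun a b => MulEquiv.ext fun n => congrArg Multiplicative.ofAdd (hactm a b n.toAdd)
  refine ⟨Multiplicative K, inferInstance, Module.finrank ℤ K,
    AddEquiv.toMultiplicative (Module.finBasis ℤ K).equivFun.toAddEquiv, ρ₁,
    AddMonoidHom.toMultiplicative pr, AddMonoidHom.toMultiplicative K.subtype.toAddMonoidHom,
    fun n => congrArg Multiplicative.ofAdd (hprK n.toAdd), fun m => congrArg Multiplicative.ofAdd (hpri m),
    fun g q => congrArg Multiplicative.ofAdd (hsh g q.toAdd), fun q => ?_⟩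
  refine Multiplicative.toAdd.injective ?_
  show q.toAdd = i (r q.toAdd) + (q.toAdd - i (r q.toAdd))
  abel

/-- Monomials of a basis of characters are algebraically independent. -/
theorem algebraicIndependent_monomials {E F : Type u} [Field E] [Field F] [Algebra E F] {X H : Type u} [CommGroup H]
    (j : MonoidAlgebra E H →ₐ[E] F) (hj : Function.Injective j) (z : X → H)
    (hz : Function.Injective fun ν : X →₀ ℕ => ν.prod fun x e => z x ^ e) :
    AlgebraicIndependent E fun x => j (MonoidAlgebra.single (z x) 1) := by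
  let Φ : (X →₀ ℕ) → H := fun ν => ν.prod fun x e => z x ^ e
  let b : Module.Basis H E (MonoidAlgebra E H) := Module.Basis.ofRepr (MonoidAlgebra.coeffLinearEquiv E)
  have hb : ∀ h, b h = MonoidAlgebra.single h 1 := fun h => b.repr.injective (by simp [b])
  let L : MvPolynomial X E →ₗ[E] MonoidAlgebra E H :=
    b.repr.symm.toLinearMap ∘ₗ Finsupp.lmapDomain E E Φ ∘ₗ (MvPolynomial.basisMonomials X E).repr.toLinearMap
  have hL : Function.Injective L :=
    b.repr.symm.injective.comp ((Finsupp.mapDomain_injective hz).comp (MvPolynomial.basisMonomials X E).repr.injective)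
  have hLe : (MvPolynomial.aeval (R := E) fun x => MonoidAlgebra.single (z x) (1 : E)).toLinearMap = L := by
    refine (MvPolynomial.basisMonomials X E).ext fun ν => ?_
    have h1 : L (MvPolynomial.basisMonomials X E ν) = MonoidAlgebra.single (Φ ν) 1 := by
      rw [← hb]
      simp only [L, LinearMap.comp_apply, LinearEquiv.coe_coe, Module.Basis.repr_self, Finsupp.lmapDomain_apply,
        Finsupp.mapDomain_single, Module.Basis.repr_symm_single_one]
    rw [h1, AlgHom.toLinearMap_apply, MvPolynomial.coe_basisMonomials, MvPolynomial.aeval_monomial, map_one,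
      one_mul]
    show (ν.prod fun x e => MonoidAlgebra.single (z x) (1 : E) ^ e) = MonoidAlgebra.of E H (ν.prod fun x e => z x ^ e)
    rw [map_finsuppProd]
    simp [MonoidAlgebra.of_apply]
  refine algebraicIndependent_iff_injective_aeval.2 ?_
  rw [show MvPolynomial.aeval (R := E) (fun x => j (MonoidAlgebra.single (z x) 1)) =
    j.comp (MvPolynomial.aeval fun x => MonoidAlgebra.single (z x) 1) from
    (MvPolynomial.comp_aeval _ _).symm]
  exact hj.comp fun p p' h => hL (by rw [← hLe]; exact h)

theorem finiteType_of_split {k E : Type u} [Field k] [Field E] [Algebra k E] {A N : Type u} [CommRing A]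
    [Algebra k A] [CommGroup N] {r : ℕ} (eN : N ≃* Multiplicative (Fin r → ℤ))
    (eA : E ⊗[k] A ≃ₐ[E] MonoidAlgebra E N) : Algebra.FiniteType k A := by
  haveI : Group.FG (Multiplicative (Fin r → ℤ)) :=
    AddGroup.fg_iff_mul_fg.1 (Module.Finite.iff_addGroup_fg.1 inferInstance)
  haveI : Group.FG N := Group.fg_of_surjective (f := eN.symm.toMonoidHom) eN.symm.surjective
  haveI : Monoid.FG N := Group.fg_iff_monoid_fg.1 inferInstance
  haveI : Algebra.FiniteType E (E ⊗[k] A) :=
    Algebra.FiniteType.equiv (inferInstance : Algebra.FiniteType E (MonoidAlgebra E N)) eA.symm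
  exact Algebra.FiniteType.of_finiteType_tensorProduct_of_faithfullyFlat E

variable {k E : Type u} [Field k] [Field E] [Algebra k E] [FiniteDimensional k E] [IsGalois k E]

/-- Rationality of the product with the torus of the auxiliary lattice. -/
theorem exists_rational {N : Type u} [CommGroup N] {n : ℕ} (eN : N ≃* Multiplicative (Fin n → ℤ))
    {A : Type u} [CommRing A] [Algebra k A] [IsDomain A] (ρ : (E ≃ₐ[k] E) →* (N ≃* N))
    (eA : E ⊗[k] A ≃ₐ[E] MonoidAlgebra E N) (hA : ∀ g a, galAlg ρ g (jOf eA a) = jOf eA a)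
    {m : ℕ} (Q : MvPolynomial (Fin m) k) (hQ : Q ≠ 0) (φ : A →ₐ[k] Localization.Away Q)
    (a : Localization.Away Q →ₐ[k] FractionRing A) (haφ : ∀ x, a (φ x) = algebraMap A (FractionRing A) x) :
    ∃ (N₁ : Type u) (_ : CommGroup N₁) (r₁ : ℕ) (_ : N₁ ≃* Multiplicative (Fin r₁ → ℤ))
      (S : Σ' ρ₁ : (E ≃ₐ[k] E) →* (N₁ ≃* N₁), SplitForm k E N₁ ρ₁) (q : ℕ),
      Scheme.BirationalOver (Spec.map (CommRingCat.ofHom (algebraMap k (A ⊗[k] S.2.A))))
        (Spec.map (CommRingCat.ofHom (algebraMap k (MvPolynomial (Fin q) k)))) := by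
  classical
  haveI : TwoUniqueSums (Fin n → ℤ) := inferInstance
  haveI : TwoUniqueProds N := (MulEquiv.twoUniqueProds_iff eN).2 inferInstance
  let LN : Additive N ≃+ (Fin n → ℤ) := AddEquiv.ofBijective (MonoidHom.toAdditiveLeft eN.toMonoidHom) eN.bijective
  haveI : Module.Finite ℤ (Additive N) := Module.Finite.equiv LN.toIntLinearEquiv.symm
  haveI : Module.Free ℤ (Additive N) := Module.Free.of_equiv LN.toIntLinearEquiv.symm
  -- the field for the first factor
  let F₀ := FractionRing (MonoidAlgebra E N)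
  let ι₀ : MonoidAlgebra E N →ₐ[E] F₀ := IsScalarTower.toAlgHom E (MonoidAlgebra E N) F₀
  have hι₀ : Function.Injective ι₀ := IsFractionRing.injective _ _
  let T₀ : (E ≃ₐ[k] E) →* (F₀ ≃+* F₀) := MonoidHom.mk'
    (fun g => IsFractionRing.ringEquivOfRingEquiv (galAlg ρ g)) fun g g' => by
      refine RingEquiv.toRingHom_injective (IsLocalization.ringHom_ext (nonZeroDivisors (MonoidAlgebra E N))
        (RingHom.ext fun x => ?_))
      show IsFractionRing.ringEquivOfRingEquiv (galAlg ρ (g * g')) (algebraMap _ F₀ x) =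
        IsFractionRing.ringEquivOfRingEquiv (galAlg ρ g)
          (IsFractionRing.ringEquivOfRingEquiv (galAlg ρ g') (algebraMap _ F₀ x))
      simp only [IsFractionRing.ringEquivOfRingEquiv_algebraMap]
      congr 1
      induction x using MonoidAlgebra.induction_linear with
      | zero => simp
      | add a b ha hb => simp only [map_add, ha, hb]
      | single p c => simp [galAlg_single]
  have hTι₀ : ∀ g x, T₀ g (ι₀ x) = ι₀ (galAlg ρ g x) := fun g x =>
    IsFractionRing.ringEquivOfRingEquiv_algebraMap _ _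
  have hT₀ : ∀ g c, T₀ g (algebraMap E F₀ c) = algebraMap E F₀ (g c) := fun g c => by
    rw [← ι₀.commutes c, hTι₀, ← ι₀.commutes (g c)]
    congr 1
    simp [MonoidAlgebra.coe_algebraMap, galAlg_single]
  let L := FractionRing A
  let fA : A →ₐ[k] F₀ := (ι₀.restrictScalars k).comp (jOf eA)
  have hfA : Function.Injective fA := hι₀.comp (jOf_injective eA)
  let aF : L →ₐ[k] F₀ := IsFractionRing.liftAlgHom (g := fA) hfA
  have haF : ∀ x, aF (algebraMap A L x) = ι₀ (jOf eA x) := fun x => by
    simp [aF, IsFractionRing.liftAlgHom_apply, fA]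
  obtain ⟨X, _, _, i, r, s₀, hri, hi, hs₀T, hs₀i, hs₀K⟩ := exists_section T₀ hT₀ ρ eA hA ι₀ hTι₀ Q hQ φ
    (aF.comp a) (fun x => by rw [AlgHom.comp_apply, haφ, haF])
    (fun g x => by
      obtain ⟨u, v, hv, huv⟩ := IsFractionRing.div_surjective A (a x)
      rw [AlgHom.comp_apply, ← huv, map_div₀, map_div₀, haF, haF, hTι₀, hTι₀, hA, hA])
    (fun x => by
      obtain ⟨u, v, hv, huv⟩ := IsFractionRing.div_surjective A (a x)
      rw [AlgHom.comp_apply, ← huv, map_div₀, haF, haF]
      exact div_mem (IntermediateField.subset_adjoin _ _ ⟨_, rfl⟩) (IntermediateField.subset_adjoin _ _ ⟨_, rfl⟩))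
  haveI := Fintype.ofFinite X
  obtain ⟨N₁, _, r₁, eN₁, ρ₁, pr, inc, hprinc, hpri, hρ₁, hdec⟩ := exists_ker_action ρ i r hri hi
  haveI : TwoUniqueProds N₁ := (MulEquiv.twoUniqueProds_iff eN₁).2 inferInstance
  let S : SplitForm k E N₁ ρ₁ := splitForm ρ₁
  let eB : E ⊗[k] S.A ≃ₐ[E] MonoidAlgebra E N₁ := S.e
  have hB : ∀ g b, galAlg ρ₁ g (jOf eB b) = jOf eB b := fun g b => S.fixed g b
  -- the big field
  let F := FractionRing (MonoidAlgebra E (N × N₁))
  let jF : MonoidAlgebra E (N × N₁) →ₐ[E] F := IsScalarTower.toAlgHom E _ F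
  have hjF : Function.Injective jF := IsFractionRing.injective _ _
  let T : (E ≃ₐ[k] E) →* (F ≃+* F) := MonoidHom.mk'
    (fun g => IsFractionRing.ringEquivOfRingEquiv (galAlg (prodAct ρ ρ₁) g)) fun g g' => by
      refine RingEquiv.toRingHom_injective (IsLocalization.ringHom_ext (nonZeroDivisors (MonoidAlgebra E (N × N₁)))
        (RingHom.ext fun x => ?_))
      show IsFractionRing.ringEquivOfRingEquiv (galAlg (prodAct ρ ρ₁) (g * g')) (algebraMap _ F x) =
        IsFractionRing.ringEquivOfRingEquiv (galAlg (prodAct ρ ρ₁) g)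
          (IsFractionRing.ringEquivOfRingEquiv (galAlg (prodAct ρ ρ₁) g') (algebraMap _ F x))
      simp only [IsFractionRing.ringEquivOfRingEquiv_algebraMap]
      congr 1
      induction x using MonoidAlgebra.induction_linear with
      | zero => simp
      | add a b ha hb => simp only [map_add, ha, hb]
      | single p c => simp [galAlg_single]
  have hTj : ∀ g x, T g (jF x) = jF (galAlg (prodAct ρ ρ₁) g x) := fun g x =>
    IsFractionRing.ringEquivOfRingEquiv_algebraMap _ _
  have hT : ∀ g c, T g (algebraMap E F c) = algebraMap E F (g c) := fun g c => by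
    rw [← jF.commutes c, hTj, ← jF.commutes (g c)]
    congr 1
    simp [MonoidAlgebra.coe_algebraMap, galAlg_single]
  have hinl : Function.Injective (inlA (E := E) (M := N) (N := N₁)) :=
    MonoidAlgebra.mapDomain_injective fun p p' h => congrArg Prod.fst h
  let lift₀ : F₀ →ₐ[E] F := IsFractionRing.liftAlgHom (g := jF.comp inlA) (hjF.comp hinl)
  have hlift₀ : ∀ x, lift₀ (ι₀ x) = jF (inlA x) := fun x => by
    simp [lift₀, IsFractionRing.liftAlgHom_apply, ι₀]
  have hTlift : ∀ g z, T g (lift₀ z) = lift₀ (T₀ g z) := by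
    intro g z
    obtain ⟨u, v, hv, rfl⟩ := IsFractionRing.div_surjective (MonoidAlgebra E N) z
    change T g (lift₀ (ι₀ u / ι₀ v)) = lift₀ (T₀ g (ι₀ u / ι₀ v))
    rw [map_div₀, map_div₀, map_div₀, map_div₀, hTι₀, hTι₀, hlift₀, hlift₀, hlift₀, hlift₀, hTj, hTj,
      galAlg_inlA, galAlg_inlA]
  let ι₂ : N₁ →* Fˣ := MonoidHom.toHomUnits
    ((jF : MonoidAlgebra E (N × N₁) →* F).comp ((MonoidAlgebra.of E (N × N₁)).comp (MonoidHom.inr N N₁)))
  have hι₂ : ∀ p, (ι₂ p : F) = jF (MonoidAlgebra.single (1, p) 1) := fun p => rfl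
  let Ψ : Multiplicative (X → ℤ) →* Fˣ :=
    ((Units.map (lift₀ : F₀ →* F)).comp s₀) * (ι₂.comp pr)
  have hΨ : ∀ p, (Ψ p : F) = lift₀ (s₀ p : F₀) * jF (MonoidAlgebra.single (1, pr p) 1) := fun p => rfl
  have hTΨ : ∀ g (p : X → ℤ), T g (Ψ (Multiplicative.ofAdd p) : F) = (Ψ (Multiplicative.ofAdd (sh g p)) : F) := by
    intro g p
    rw [hΨ, hΨ, map_mul, hTlift, hs₀T, hTj, galAlg_single, map_one]
    congr 3
    show (ρ g 1, ρ₁ g (pr (Multiplicative.ofAdd p))) = (1, pr (Multiplicative.ofAdd (sh g p)))
    rw [map_one, hρ₁]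
    rfl
  let y : X → F := fun x => (Ψ (Multiplicative.ofAdd (Pi.single x (1 : ℤ))) : F)
  have hTy : ∀ g x, T g (y x) = y (g • x) := fun g x => by
    show T g (Ψ _ : F) = _
    rw [hTΨ]
    congr 4
    funext z
    simp only [sh, Pi.single_apply, inv_smul_eq_iff]
  -- generation
  let K := IntermediateField.adjoin E (Set.range y)
  have hΨK : ∀ p, (Ψ p : F) ∈ K := by
    intro p
    have hp : p = ∏ x, Multiplicative.ofAdd (Pi.single x (1 : ℤ)) ^ (p.toAdd x) := by
      apply Multiplicative.toAdd.injective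
      rw [toAdd_prod]
      simp only [toAdd_zpow, toAdd_ofAdd]
      conv_lhs => rw [← Finset.univ_sum_single p.toAdd]
      refine Finset.sum_congr rfl fun x _ => ?_
      rw [← Pi.single_smul, smul_eq_mul, mul_one]
    rw [hp, map_prod, Units.coe_prod]
    refine prod_mem fun x _ => ?_
    rw [map_zpow, Units.val_zpow_eq_zpow_val]
    exact zpow_mem (IntermediateField.subset_adjoin _ _ ⟨x, rfl⟩ : y x ∈ K) _
  have hinlK : ∀ x, jF (inlA x) ∈ K := by
    intro x
    induction x using MonoidAlgebra.induction_linear with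
    | zero => simp
    | add a b ha hb => simp only [map_add]; exact add_mem ha hb
    | single p c =>
      obtain ⟨d, hd⟩ := hs₀i p
      have h1 : jF (inlA (MonoidAlgebra.single p 1)) =
          algebraMap E F d * (Ψ (Multiplicative.ofAdd (i (Additive.ofMul p))) : F) := by
        rw [← hlift₀, ← hd, map_mul, AlgHom.commutes, hΨ, hpri, ← Prod.one_eq_mk, ← MonoidAlgebra.one_def, map_one,
          mul_one]
      rw [show MonoidAlgebra.single p c = c • MonoidAlgebra.single p 1 by simp, map_smul, map_smul, h1]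
      exact IntermediateField.smul_mem _ (mul_mem (IntermediateField.algebraMap_mem _ d) (hΨK _))
  have hliftK : ∀ z, z ∈ IntermediateField.adjoin E (Set.range ι₀) → lift₀ z ∈ K := fun z hz => by
    have h1 : lift₀ z ∈ (IntermediateField.adjoin E (Set.range ι₀)).map lift₀ := ⟨z, hz, rfl⟩
    rw [IntermediateField.adjoin_map] at h1
    refine IntermediateField.adjoin_le_iff.2 ?_ h1
    rintro _ ⟨_, ⟨x, rfl⟩, rfl⟩
    show lift₀ (ι₀ x) ∈ K
    rw [hlift₀]
    exact hinlK x
  have hinrK : ∀ p : N₁, jF (MonoidAlgebra.single (1, p) 1) ∈ K := fun p => by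
    have h1 := hΨ (inc p)
    rw [hprinc] at h1
    have hne : lift₀ (s₀ (inc p) : F₀) ≠ 0 := (Units.map (lift₀ : F₀ →* F) (s₀ (inc p))).ne_zero
    rw [show jF (MonoidAlgebra.single (1, p) 1) = (Ψ (inc p) : F) / lift₀ (s₀ (inc p) : F₀) by
      rw [h1, mul_div_cancel_left₀ _ hne]]
    exact div_mem (hΨK _) (hliftK _ (hs₀K _))
  have hjK : ∀ x, jF x ∈ K := fun x => by
    induction x using MonoidAlgebra.induction_linear with
    | zero => simp
    | add a b ha hb => rw [map_add]; exact add_mem ha hb
    | single p c =>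
      rw [show MonoidAlgebra.single p c = inlA (MonoidAlgebra.single p.1 c) * MonoidAlgebra.single (1, p.2) 1 by
        simp [inlA_single], map_mul]
      exact mul_mem (hinlK _) (hinrK _)
  have htop : ∀ (K' : IntermediateField E F), (∀ x, jF x ∈ K') → K' = ⊤ := fun K' h => by
    refine IntermediateField.ext fun z => ⟨fun _ => IntermediateField.mem_top, fun _ => ?_⟩
    obtain ⟨u, v, -, rfl⟩ := IsFractionRing.div_surjective (MonoidAlgebra E (N × N₁)) z
    exact div_mem (h u) (h v)
  -- fixed generators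
  obtain ⟨q, v, hqX, hv, hyv⟩ := exists_fixed_gens T hT y fun g x => by
    rw [hTy]; exact Submodule.subset_span ⟨_, rfl⟩
  have hvtop : IntermediateField.adjoin E (Set.range v) = ⊤ := htop _ fun x =>
    IntermediateField.adjoin_le_iff.2 (by
      rintro _ ⟨z, rfl⟩
      exact (Submodule.span_le (p := (IntermediateField.adjoin E (Set.range v)).toSubalgebra.toSubmodule)).2
        (fun w hw => IntermediateField.subset_adjoin E _ hw) (hyv z)) (hjK x)
  -- independence
  let zH : X → N × N₁ := fun x =>
    ((r (Pi.single x (1 : ℤ))).toMul, pr (Multiplicative.ofAdd (Pi.single x (1 : ℤ))))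
  have hz : AlgebraicIndependent E fun x => jF (MonoidAlgebra.single (zH x) 1) := by
    refine algebraicIndependent_monomials jF hjF zH ?_
    let Z : Multiplicative (X → ℤ) →* N × N₁ := (AddMonoidHom.toMultiplicativeLeft r).prod pr
    have hZ : Function.Injective Z := fun p p' h => by
      rw [hdec p, hdec p', show r p.toAdd = r p'.toAdd from Additive.toMul.injective (congrArg Prod.fst h),
        show pr p = pr p' from congrArg Prod.snd h]
    intro ν ν' h
    have key : ∀ ν : X →₀ ℕ, (ν.prod fun x e => zH x ^ e) = Z (Multiplicative.ofAdd fun x => (ν x : ℤ)) := by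
      intro ν
      rw [show (ν.prod fun x e => zH x ^ e) = Z (ν.prod fun x e => Multiplicative.ofAdd (Pi.single x (1 : ℤ)) ^ e) by
        rw [map_finsuppProd]
        exact Finset.prod_congr rfl fun x _ => by simp only [map_pow]; rfl]
      refine congrArg Z (Multiplicative.toAdd.injective ?_)
      rw [Finsupp.prod_fintype _ _ (fun x => pow_zero _), toAdd_prod]
      simp only [toAdd_pow, toAdd_ofAdd]
      conv_rhs => rw [← Finset.univ_sum_single fun x => (ν x : ℤ)]
      refine Finset.sum_congr rfl fun x _ => ?_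
      rw [← Pi.single_smul, nsmul_eq_mul, mul_one]
    simp only [key] at h
    refine Finsupp.ext fun x => ?_
    exact_mod_cast congrFun (Multiplicative.ofAdd.injective (hZ h)) x
  have hvind : AlgebraicIndependent E v := by
    have := algebraicIndependent_of_gen (E := E) (fun j : ULift.{u} (Fin q) => v j.down) _ hz (by simpa using hqX) (by
      rw [← hvtop]
      congr 1
      exact Equiv.ulift.surjective.range_comp v)
    exact this.comp ULift.up ULift.up_injective
  have hvk : AlgebraicIndependent k v := hvind.restrictScalars (algebraMap k E).injective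
  -- conclusion
  let f : A ⊗[k] S.A →ₐ[k] F := (jF.restrictScalars k).comp (prodJ eA eB)
  have hf : Function.Injective f := hjF.comp (prodJ_injective eA eB)
  have hffix : ∀ g b, T g (f b) = f b := fun g b => by
    show T g (jF _) = jF _
    rw [hTj]
    exact congrArg jF (galAlg_prodJ eA eB ρ ρ₁ hA hB g b)
  have hfgen : IntermediateField.adjoin E (Set.range f) = ⊤ := htop _ fun x => by
    have h1 : jF x ∈ (Algebra.adjoin E (Set.range (prodJ eA eB))).map jF := ⟨x, mem_adjoin_prodJ eA eB x, rfl⟩
    rw [AlgHom.map_adjoin] at h1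
    refine Algebra.adjoin_le ?_ h1 (S := (IntermediateField.adjoin E (Set.range f)).toSubalgebra)
    rintro _ ⟨_, ⟨b, rfl⟩, rfl⟩
    exact IntermediateField.subset_adjoin _ _ ⟨b, rfl⟩
  let gP : MvPolynomial (Fin q) k →ₐ[k] F := MvPolynomial.aeval v
  have hgP : Function.Injective gP := hvk
  have hgfix : ∀ g p, T g (gP p) = gP p := fun g p => by
    induction p using MvPolynomial.induction_on with
    | C c =>
      rw [← MvPolynomial.algebraMap_eq, AlgHom.commutes, IsScalarTower.algebraMap_apply k E F, hT, g.commutes]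
    | add a b ha hb => simp only [map_add, ha, hb]
    | mul_X a j ha => simp only [map_mul, gP, MvPolynomial.aeval_X] at ha ⊢; rw [ha, hv]
  have hggen : IntermediateField.adjoin E (Set.range gP) = ⊤ := top_le_iff.1 (hvtop ▸ IntermediateField.adjoin.mono E _ _ (by
    rintro _ ⟨j, rfl⟩
    exact ⟨MvPolynomial.X j, MvPolynomial.aeval_X v j⟩))
  haveI : IsDomain (A ⊗[k] S.A) := hf.isDomain f
  haveI : Algebra.FiniteType k A := finiteType_of_split eN eA
  haveI : Algebra.FiniteType k S.A := finiteType_of_split eN₁ eB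
  haveI : Algebra.FiniteType k (A ⊗[k] S.A) := by
    haveI : Algebra.FiniteType A (A ⊗[k] S.A) := inferInstance
    exact Algebra.FiniteType.trans (S := A) inferInstance inferInstance
  exact ⟨N₁, inferInstance, r₁, eN₁, ⟨ρ₁, S⟩, q, birationalOver_spec f hf gP hgP
    (fun p => exists_ratio T hT f hffix hfgen (fun g => hgfix g p))
    (fun b => exists_ratio T hT gP hgfix hggen (fun g => hffix g b))⟩

end Groth.Misc15.RatTorus
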