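import Mathlib

/-!
A permutation lattice containing a given lattice, with the extension property for equivariant maps
into permutation lattices.
-/

set_option autoImplicit false
set_option linter.style.haveILetI false

universe u

namespace Groth.Misc15.RatTorus

variable {G : Type u} [Group G] [Finite G] {M : Type u} [AddCommGroup M] [Module.Finite ℤ M]
  [Module.Free ℤ M] [DistribMulAction G M]

variable (G M) in
/-- Every lattice sits as a direct summand, equivariantly, in a permutation lattice `X → ℤ` to which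
all equivariant maps into permutation modules extend. -/
theorem exists_cover :
    ∃ (X : Type u) (_ : Finite X) (_ : MulAction G X) (i : M →+ (X → ℤ)) (r : (X → ℤ) →+ M),
      (∀ m, r (i m) = m) ∧ (∀ (σ : G) (m : M) (x : X), i (σ • m) x = i m (σ⁻¹ • x)) ∧
      ∀ (Ξ : Type u) [MulAction G Ξ] (a : M →+ (Ξ → ℤ)),
        (∀ (σ : G) (m : M) (ξ : Ξ), a (σ • m) ξ = a m (σ⁻¹ • ξ)) →
        ∃ a' : (X → ℤ) →+ (Ξ → ℤ),
          (∀ (σ : G) (q : X → ℤ) (ξ : Ξ), a' (fun x => q (σ⁻¹ • x)) ξ = a' q (σ⁻¹ • ξ)) ∧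
          ∀ m, a' (i m) = a m := by
  classical
  -- generators of the fixed functionals
  let fixd : Subgroup G → Submodule ℤ (M →ₗ[ℤ] ℤ) := fun H =>
    { carrier := {f | ∀ h ∈ H, ∀ m, f (h • m) = f m}
      add_mem' := fun {a b} ha hb h hh m => by simp [ha h hh m, hb h hh m]
      zero_mem' := fun h hh m => rfl
      smul_mem' := fun c a ha h hh m => by simp [ha h hh m] }
  haveI : IsNoetherian ℤ (M →ₗ[ℤ] ℤ) := isNoetherian_of_isNoetherianRing_of_finite ℤ _
  have hgens : ∀ H, ∃ s : Finset (M →ₗ[ℤ] ℤ), Submodule.span ℤ (s : Set (M →ₗ[ℤ] ℤ)) = fixd H :=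
    fun H => IsNoetherian.noetherian (fixd H)
  choose s hs using hgens
  let X := Σ H : Subgroup G, ↥(s H) × (G ⧸ H)
  letI : MulAction G X :=
    { smul := fun g x => ⟨x.1, x.2.1, g • x.2.2⟩
      one_smul := fun x => by
        show (⟨x.1, x.2.1, (1 : G) • x.2.2⟩ : X) = x
        rw [one_smul]
      mul_smul := fun g g' x => by
        show (⟨x.1, x.2.1, (g * g') • x.2.2⟩ : X) = ⟨x.1, x.2.1, g • g' • x.2.2⟩
        rw [mul_smul] }
  have hmem : ∀ (H : Subgroup G) (f : ↥(s H)), f.1 ∈ fixd H := fun H f => hs H ▸ Submodule.subset_span f.2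
  have hinv : ∀ (x : X) (a b : G), QuotientGroup.leftRel x.1 a b →
      ∀ m : M, x.2.1.1 (a⁻¹ • m) = x.2.1.1 (b⁻¹ • m) := by
    intro x a b hab m
    rw [QuotientGroup.leftRel_apply] at hab
    have h1 := hmem x.1 x.2.1 _ hab (b⁻¹ • m)
    rw [← mul_smul, mul_assoc, mul_inv_cancel, mul_one] at h1
    exact h1
  let val : X → M → ℤ := fun x m => Quotient.liftOn' x.2.2 (fun a => x.2.1.1 (a⁻¹ • m))
    fun a b h => hinv x a b h m
  let i : M →+ (X → ℤ) :=
    { toFun := fun m x => val x m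
      map_zero' := funext fun x => by
        obtain ⟨H, f, c⟩ := x
        induction c using QuotientGroup.induction_on with
        | _ a => show f.1 (a⁻¹ • (0 : M)) = 0; simp
      map_add' := fun m n => funext fun x => by
        obtain ⟨H, f, c⟩ := x
        induction c using QuotientGroup.induction_on with
        | _ a => show f.1 (a⁻¹ • (m + n)) = f.1 (a⁻¹ • m) + f.1 (a⁻¹ • n); simp }
  have hi : ∀ (H : Subgroup G) (f : ↥(s H)) (a : G) (m : M),
      i m ⟨H, f, QuotientGroup.mk a⟩ = f.1 (a⁻¹ • m) := fun _ _ _ _ => rfl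
  -- coefficients
  have hcoef : ∀ (H : Subgroup G) (f : M →ₗ[ℤ] ℤ), f ∈ fixd H →
      ∃ c : ↥(s H) → ℤ, ∀ m, ∑ j, c j * j.1 m = f m := by
    intro H f hf
    rw [← hs H] at hf
    obtain ⟨c, -, hc⟩ := Submodule.mem_span_finset.1 hf
    refine ⟨fun j => c j.1, fun m => ?_⟩
    rw [← hc, LinearMap.sum_apply]
    exact Finset.sum_coe_sort (s H) fun j => c j * j m
  -- retraction
  let ι := Module.Free.ChooseBasisIndex ℤ M
  let b := Module.Free.chooseBasis ℤ M
  have hb : ∀ j, ∃ c : ↥(s ⊥) → ℤ, ∀ m, ∑ l, c l * l.1 m = b.coord j m := fun j =>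
    hcoef ⊥ (b.coord j) fun h hh m => by rw [Subgroup.mem_bot.1 hh, one_smul]
  choose cb hcb using hb
  let r : (X → ℤ) →+ M := AddMonoidHom.mk'
    (fun q => ∑ j, (∑ l, cb j l * q ⟨⊥, l, QuotientGroup.mk 1⟩) • b j) fun p q => by
      simp only [Pi.add_apply, mul_add, Finset.sum_add_distrib, add_smul]
  refine ⟨X, inferInstance, inferInstance, i, r, fun m => ?_, fun σ m x => ?_, ?_⟩
  · show ∑ j, (∑ l, cb j l * i m ⟨⊥, l, QuotientGroup.mk 1⟩) • b j = m
    conv_rhs => rw [← b.sum_repr m]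
    refine Finset.sum_congr rfl fun j _ => ?_
    congr 1
    simp only [hi, inv_one, one_smul, hcb]
    rfl
  · obtain ⟨H, f, c⟩ := x
    induction c using QuotientGroup.induction_on with
    | _ a =>
      show i (σ • m) ⟨H, f, QuotientGroup.mk a⟩ = i m ⟨H, f, QuotientGroup.mk (σ⁻¹ * a)⟩
      rw [hi, hi, mul_inv_rev, inv_inv, mul_smul]
  intro Ξ _ a ha
  -- orbit representatives
  let rep : Ξ → Ξ := fun ξ => (Quotient.mk'' ξ : MulAction.orbitRel.Quotient G Ξ).out
  have hrep : ∀ ξ, ∃ g : G, g • rep ξ = ξ := fun ξ =>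
    MulAction.orbitRel_apply.1 (Setoid.symm' _ (Quotient.exact' (Quotient.out_eq' (Quotient.mk'' ξ))))
  have hrepsmul : ∀ (g : G) ξ, rep (g • ξ) = rep ξ := fun g ξ =>
    congrArg Quotient.out (Quotient.sound' (MulAction.orbitRel_apply.2 (MulAction.mem_orbit ξ g)))
  choose g hg using hrep
  have hc : ∀ ξ0 : Ξ, ∃ c : ↥(s (MulAction.stabilizer G ξ0)) → ℤ, ∀ m, ∑ j, c j * j.1 m = a m ξ0 :=
    fun ξ0 => hcoef _ { toFun := fun m => a m ξ0
                        map_add' := fun m n => by rw [map_add]; rfl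
                        map_smul' := fun c m => by rw [map_zsmul]; rfl }
      fun h hh m => by
        show a (h • m) ξ0 = a m ξ0
        rw [ha, inv_smul_eq_iff.2 (MulAction.mem_stabilizer_iff.1 hh).symm]
  choose c hc using hc
  let a' : (X → ℤ) →+ (Ξ → ℤ) := AddMonoidHom.mk'
    (fun q ξ => ∑ j, c (rep ξ) j * q ⟨MulAction.stabilizer G (rep ξ), j, QuotientGroup.mk (g ξ)⟩)
    fun p q => funext fun ξ => by simp only [Pi.add_apply, mul_add, Finset.sum_add_distrib]
  refine ⟨a', fun σ q ξ => ?_, fun m => funext fun ξ => ?_⟩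
  · show ∑ j, c (rep ξ) j * q (σ⁻¹ • ⟨_, j, QuotientGroup.mk (g ξ)⟩) =
      ∑ j, c (rep (σ⁻¹ • ξ)) j * q ⟨_, j, QuotientGroup.mk (g (σ⁻¹ • ξ))⟩
    have key : ∀ (ξ0 : Ξ), ξ0 = rep ξ → ∀ (g' : G), g' • ξ0 = σ⁻¹ • ξ →
        ∑ j, c (rep ξ) j * q (σ⁻¹ • ⟨_, j, QuotientGroup.mk (g ξ)⟩) =
        ∑ j, c ξ0 j * q ⟨MulAction.stabilizer G ξ0, j, QuotientGroup.mk g'⟩ := by
      rintro ξ0 rfl g' hg'
      refine Finset.sum_congr rfl fun j _ => ?_
      congr 2
      show (⟨_, j, QuotientGroup.mk (σ⁻¹ * g ξ)⟩ : X) = _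
      refine congrArg (fun z => (⟨MulAction.stabilizer G (rep ξ), j, z⟩ : X)) (QuotientGroup.eq.2 ?_)
      rw [MulAction.mem_stabilizer_iff, mul_smul, inv_smul_eq_iff, hg', mul_smul, hg]
    exact key _ (hrepsmul σ⁻¹ ξ) _ (hg _)
  · show ∑ j, c (rep ξ) j * i m ⟨_, j, QuotientGroup.mk (g ξ)⟩ = a m ξ
    simp only [hi]
    rw [hc, ha, inv_inv, hg]

end Groth.Misc15.RatTorus
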