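import Groth.Agent.Misc15.RetractDvr.Main
import Groth.Agent.AlgGrp2.AffinePts

/-!
Surjectivity of reductions over discrete valuation rings gives a lift of the generic point through an
open of affine space.
-/

set_option autoImplicit false
set_option linter.style.haveILetI false

universe u

open CategoryTheory AlgebraicGeometry TensorProduct
open Groth.Misc15.RetractDvr

noncomputable section

namespace Groth.Misc15.RatTorus

variable {k : Type u} [Field k]

theorem exists_affine_lift {E : Type u} [Field E] [Algebra k E] [FiniteDimensional k E] [IsGalois k E]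
    {G : Type u} [CommGroup G] [TwoUniqueProds G]
    (hG : ∀ p : ℕ, p.Prime → Function.Injective fun m : G => m ^ p)
    {A : Type u} [CommRing A] [IsDomain A] [Algebra k A] [Algebra.FiniteType k A]
    (j : A →ₐ[k] MonoidAlgebra E G) (hj : Function.Injective j)
    {T : Over (Spec (CommRingCat.of k))} (iT : CoactBr.sp k A ≅ T)
    (h : ∀ (R : Type u) [CommRing R] [IsDomain R] [IsDiscreteValuationRing R] [Algebra k R]
        (u : Spec (CommRingCat.of (IsLocalRing.ResidueField R)) ⟶ T.left),
        u ≫ T.hom = Spec.map (CommRingCat.ofHom ((IsLocalRing.residue R).comp (algebraMap k R))) →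
        ∃ s : Spec (CommRingCat.of R) ⟶ T.left, s ≫ T.hom = Spec.map (CommRingCat.ofHom (algebraMap k R)) ∧
          Spec.map (CommRingCat.ofHom (IsLocalRing.residue R)) ≫ s = u) :
    ∃ (m : ℕ) (Q : MvPolynomial (Fin m) k) (φ : A →ₐ[k] Localization.Away Q)
      (a : Localization.Away Q →ₐ[k] FractionRing A),
      Q ≠ 0 ∧ ∀ x, a (φ x) = algebraMap A (FractionRing A) x := by
  let L := FractionRing A
  haveI : Algebra.EssFiniteType k L := by
    haveI : Algebra.EssFiniteType A L := Algebra.EssFiniteType.of_isLocalization L (nonZeroDivisors _)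
    exact Algebra.EssFiniteType.comp k A L
  obtain ⟨s, hs, hsep⟩ := exists_sepBasis (O := A) (L := L) hG j hj
  obtain ⟨n, v, g, hg, hker, hgen⟩ := exists_model s hs hsep
  obtain ⟨R, _, _, _, _, jP, e, he, hev, hι, hR⟩ := exists_dvr_model v g hg hker hgen
  let eR : IsLocalRing.ResidueField R ≃+* L := RingEquiv.ofBijective e he
  letI : Algebra k (IsLocalRing.ResidueField R) := inferInstance
  have hec : ∀ c : k, eR (algebraMap k (IsLocalRing.ResidueField R) c) = algebraMap k L c := fun c => by
    rw [IsScalarTower.algebraMap_apply k R (IsLocalRing.ResidueField R)]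
    show e (IsLocalRing.residue R (algebraMap k R c)) = _
    rw [← jP.commutes, hev, AlgHom.commutes]
  let φ₀ : A →ₐ[k] IsLocalRing.ResidueField R :=
    AlgHom.mk ((eR.symm : L →+* IsLocalRing.ResidueField R).comp (algebraMap A L)) fun c => by
      apply eR.injective
      rw [hec]
      show eR (eR.symm (algebraMap A L (algebraMap k A c))) = _
      rw [RingEquiv.apply_symm_apply, ← IsScalarTower.algebraMap_apply]
  have hres : Spec.map (CommRingCat.ofHom (algebraMap k (IsLocalRing.ResidueField R))) =
      Spec.map (CommRingCat.ofHom ((IsLocalRing.residue R).comp (algebraMap k R))) := by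
    rw [IsScalarTower.algebraMap_eq k R (IsLocalRing.ResidueField R)]
    rfl
  obtain ⟨sR, hsR, hsres⟩ := h R (CoactBr.pt φ₀ ≫ iT.hom).left ((Over.w _).trans hres)
  obtain ⟨φ, hφ⟩ := Groth.AlgGrp2.pt_surjective (R := k) (B := A) (K := R)
    ((Over.homMk sR hsR : CoactBr.sp k R ⟶ T) ≫ iT.inv)
  have hred : ∀ o, IsLocalRing.residue R (φ o) = φ₀ o := by
    have h1 : CoactBr.pt (IsScalarTower.toAlgHom k R (IsLocalRing.ResidueField R)) ≫
        (Over.homMk sR hsR : CoactBr.sp k R ⟶ T) = CoactBr.pt φ₀ ≫ iT.hom := Over.OverMorphism.ext hsres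
    have h2 : CoactBr.pt ((IsScalarTower.toAlgHom k R (IsLocalRing.ResidueField R)).comp φ) = CoactBr.pt φ₀ := by
      rw [CoactBr.pt_comp, hφ, ← Category.assoc, h1, Category.assoc, Iso.hom_inv_id, Category.comp_id]
    exact fun o => AlgHom.congr_fun (CoactBr.pt_injective h2) o
  obtain ⟨δ, Q, a, b, hδ, hab⟩ := exists_retraction (O := A) (L := L) v jP hι
    (e.comp (IsLocalRing.residue R)) hev hR φ fun o => by
      show e (IsLocalRing.residue R (φ o)) = _
      rw [hred]
      exact eR.apply_symm_apply _
  have hδle : ∀ y : Submonoid.powers δ, IsUnit (IsScalarTower.toAlgHom k A L (y : A)) := by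
    rintro ⟨_, i, rfl⟩
    exact isUnit_iff_ne_zero.2 ((map_ne_zero_iff _ (IsFractionRing.injective A L)).2 (pow_ne_zero i hδ))
  let iO : Localization.Away δ →ₐ[k] L := IsLocalization.liftAlgHom (M := Submonoid.powers δ) hδle
  haveI : Nontrivial (Localization.Away δ) :=
    (IsLocalization.injective (Localization.Away δ) (powers_le_nonZeroDivisors_of_noZeroDivisors hδ : Submonoid.powers δ ≤ _)).nontrivial
  refine ⟨n + 1, Q, b.comp (IsScalarTower.toAlgHom k A _), iO.comp a, fun hQ => ?_, fun x => ?_⟩
  · have h1 := (IsLocalization.Away.algebraMap_isUnit (S := Localization.Away Q) Q).map a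
    rw [show algebraMap (MvPolynomial (Fin (n + 1)) k) (Localization.Away Q) Q = 0 from
      (congrArg (algebraMap (MvPolynomial (Fin (n + 1)) k) (Localization.Away Q)) hQ).trans (map_zero _),
      map_zero] at h1
    exact not_isUnit_zero h1
  · show iO (a (b (algebraMap A (Localization.Away δ) x))) = _
    rw [← AlgHom.comp_apply a b, hab]
    simp [iO, IsLocalization.coe_liftAlgHom, IsLocalization.lift_eq]
    rfl

end Groth.Misc15.RatTorus
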