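import Groth.Agent.Misc15.RatTorus.Schemes
import Groth.Agent.Misc15.RatTorus.Retraction
import Groth.Agent.TorusPts.Data
import Groth.Agent.TorusPts.Affine

/-!
A torus whose reductions over discrete valuation rings are surjective is stably a factor of a rational
variety.
-/

set_option autoImplicit false
set_option linter.style.haveILetI false

universe u

open CategoryTheory MonoidalCategory CartesianMonoidalCategory MonObj AlgebraicGeometry TensorProduct
open Groth.AlgGrp2 Groth.TorusPts

noncomputable section

namespace Groth.Misc15.RatTorus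

variable {k : Type u} [Field k]

theorem exists_factor_rational {T : Over (Spec (CommRingCat.of k))} [GrpObj T] {r : ℕ}
    (hT : TwC.Locally (Spec (CommRingCat.of k)) .finiteEtale
        (fun S' g => Red.IsSplitTorusWith (Fin r → ℤ) (Red.bc g T)))
    (h : ∀ (A : Type u) [CommRing A] [IsDomain A] [IsDiscreteValuationRing A] [Algebra k A]
        (u : Spec (CommRingCat.of (IsLocalRing.ResidueField A)) ⟶ T.left),
        u ≫ T.hom = Spec.map (CommRingCat.ofHom ((IsLocalRing.residue A).comp (algebraMap k A))) →
        ∃ s : Spec (CommRingCat.of A) ⟶ T.left, s ≫ T.hom = Spec.map (CommRingCat.ofHom (algebraMap k A)) ∧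
          Spec.map (CommRingCat.ofHom (IsLocalRing.residue A)) ≫ s = u) :
    ∃ (T₁ : Over (Spec (CommRingCat.of k))) (_ : GrpObj T₁),
      (∃ r₁ : ℕ, TwC.Locally (Spec (CommRingCat.of k)) .finiteEtale
        (fun S' g => Red.IsSplitTorusWith (Fin r₁ → ℤ) (Red.bc g T₁))) ∧
      Scheme.IsRationalOver (T ⊗ T₁).hom := by
  classical
  obtain ⟨L, _, _, hL⟩ := exists_split_field hT
  obtain ⟨A, _, _, j, -, ⟨eL⟩⟩ := exists_hopf_split T L hL
  obtain ⟨E, _, _, N, _, e, f, hfin, hgal⟩ := exists_galois_splitting L eL
  haveI := hfin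
  haveI := hgal
  let ρ : (E ≃ₐ[k] E) →* (N ≃* N) := MonoidHom.mk' (fun g =>
      { toFun := rhoHom e g.toAlgHom
        invFun := rhoHom e (g⁻¹ : E ≃ₐ[k] E).toAlgHom
        left_inv := fun m => by
          rw [← rhoHom_comp, show (g⁻¹ : E ≃ₐ[k] E).toAlgHom.comp g.toAlgHom = AlgHom.id k E from
            AlgHom.ext fun x => g.symm_apply_apply x, rhoHom_id]
        right_inv := fun m => by
          rw [← rhoHom_comp, show g.toAlgHom.comp (g⁻¹ : E ≃ₐ[k] E).toAlgHom = AlgHom.id k E from
            AlgHom.ext fun x => g.apply_symm_apply x, rhoHom_id]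
        map_mul' := map_mul _ })
    fun a b => MulEquiv.ext fun m => rhoHom_comp e a.toAlgHom b.toAlgHom m
  let eA : E ⊗[k] A ≃ₐ[E] MonoidAlgebra E N := e
  have hA : ∀ g a, galAlg ρ g (jOf eA a) = jOf eA a := by
    intro g a
    have key : ∀ w, galAlg ρ g w =
        eA (Algebra.TensorProduct.map g.toAlgHom (AlgHom.id k A) (eA.symm w)) := by
      intro w
      induction w using MonoidAlgebra.induction_linear with
      | zero => simp
      | add p q hp hq => simp only [map_add, hp, hq]
      | single m c =>
        have h1 : eA.symm (MonoidAlgebra.single m c) = (c ⊗ₜ[k] (1 : A)) * chr e m := by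
          apply eA.injective
          rw [AlgEquiv.apply_symm_apply, map_mul, show eA (c ⊗ₜ[k] (1 : A)) = algebraMap E _ c from eA.commutes c,
            show eA (chr e m) = MonoidAlgebra.single m 1 from e_chr e m]
          simp [MonoidAlgebra.coe_algebraMap]
        rw [h1, map_mul, Algebra.TensorProduct.map_tmul, rhoHom_spec, map_mul, map_one,
          show eA ((g.toAlgHom c) ⊗ₜ[k] (1 : A)) = algebraMap E _ (g.toAlgHom c) from eA.commutes _,
          show eA (chr e (rhoHom e g.toAlgHom m)) = MonoidAlgebra.single (rhoHom e g.toAlgHom m) 1 from e_chr e _,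
          galAlg_single]
        simp [MonoidAlgebra.coe_algebraMap, ρ]
    rw [key, jOf_apply, AlgEquiv.symm_apply_apply, Algebra.TensorProduct.map_tmul, map_one]
    rfl
  haveI : TwoUniqueSums (Fin r → ℤ) := inferInstance
  haveI : TwoUniqueProds N := (MulEquiv.twoUniqueProds_iff f).2 inferInstance
  haveI : IsDomain A := (jOf_injective eA).isDomain _
  haveI : Algebra.FiniteType k A := finiteType_of_split f eA
  have hG : ∀ p : ℕ, p.Prime → Function.Injective fun m : N => m ^ p := fun p hp m m' hm => by
    refine f.injective (Multiplicative.toAdd.injective (funext fun i => ?_))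
    have h2 := congrFun (congrArg (fun z => (f z).toAdd) hm) i
    simp only [map_pow, toAdd_pow, Pi.smul_apply, nsmul_eq_mul] at h2
    exact mul_left_cancel₀ (by exact_mod_cast hp.ne_zero) h2
  obtain ⟨m, Q, φ, a, hQ, haφ⟩ := exists_affine_lift hG (jOf eA) (jOf_injective eA) j h
  obtain ⟨N₁, _, r₁, eN₁, ⟨ρ₁, S⟩, q, hbir⟩ := exists_rational f ρ eA hA Q hQ φ a haφ
  exact ⟨CoactBr.sp k S.A, inferInstance, ⟨r₁, locally_sp eN₁ S.e⟩, isRationalOver_tensor j hbir⟩

end Groth.Misc15.RatTorus
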