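import Mathlib

/-!
Units of a principal localisation of a polynomial ring over a field: constants times monomials in the
monic prime divisors, compatibly with automorphisms of the field.
-/

set_option autoImplicit false
set_option linter.style.haveILetI false

universe u

open MvPolynomial

namespace Groth.Misc15.RatTorus

variable {E : Type u} [Field E] {n : ℕ}

/-- leading coefficient for the lexicographic order -/
noncomputable abbrev lc (p : MvPolynomial (Fin n) E) : E := (MonomialOrder.lex (σ := Fin n)).leadingCoeff p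

theorem lc_map (φ : E →+* E) (p : MvPolynomial (Fin n) E) : lc (p.map φ) = φ (lc p) := by
  simp only [lc, MonomialOrder.leadingCoeff, MonomialOrder.degree,
    MvPolynomial.support_map_of_injective p φ.injective, MvPolynomial.coeff_map]

theorem lc_mul_C (p : MvPolynomial (Fin n) E) (c : E) : lc (p * C c) = lc p * c := by
  by_cases hc : c = 0
  · simp [lc, hc]
  by_cases hp : p = 0
  · simp [lc, hp]
  rw [lc, MonomialOrder.leadingCoeff_mul, MonomialOrder.leadingCoeff_C]

theorem eq_of_associated {p p' : MvPolynomial (Fin n) E} (h : Associated p p') (hp : lc p = 1)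
    (hp' : lc p' = 1) : p = p' := by
  obtain ⟨u, rfl⟩ := h
  obtain ⟨c, -, hc⟩ := MvPolynomial.isUnit_iff_eq_C_of_isReduced.1 u.isUnit
  rw [hc, lc_mul_C, hp, one_mul] at hp'
  rw [hc, hp', map_one, mul_one]

variable {G : Type u} [Group G] [MulSemiringAction G E] (q : MvPolynomial (Fin n) E)

/-- monic prime divisors -/
def MonicDiv : Type u := {p : MvPolynomial (Fin n) E // Prime p ∧ lc p = 1 ∧ p ∣ q}

variable {q}

theorem finite_monicDiv (hq : q ≠ 0) : Finite (MonicDiv q) := by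
  classical
  let S := (UniqueFactorizationMonoid.factors q).toFinset.image fun r => r * C (lc r)⁻¹
  refine Finite.of_injective (fun p : MonicDiv q => (⟨p.1, ?_⟩ : S)) fun a b h => Subtype.ext (congrArg (fun z : S => z.1) h)
  obtain ⟨r, hr, hpr⟩ := UniqueFactorizationMonoid.exists_mem_factors_of_dvd hq p.2.1.irreducible p.2.2.2
  refine Finset.mem_image.2 ⟨r, Multiset.mem_toFinset.2 hr, ?_⟩
  have hr0 : r ≠ 0 := (UniqueFactorizationMonoid.prime_of_factor r hr).ne_zero
  have hlc : lc r ≠ 0 := MonomialOrder.leadingCoeff_ne_zero_iff.2 hr0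
  refine (eq_of_associated ?_ p.2.2.1 (by rw [lc_mul_C, mul_inv_cancel₀ hlc])).symm
  exact hpr.trans (associated_mul_unit_right r _ ((isUnit_iff_ne_zero.2 (inv_ne_zero hlc)).map C))

/-- the action on the monic prime divisors of an invariant polynomial -/
@[reducible]
noncomputable def monicDivAction (hfix : ∀ g : G, q.map (MulSemiringAction.toRingHom G E g) = q) :
    MulAction G (MonicDiv q) where
  smul g p := ⟨p.1.map (MulSemiringAction.toRingHom G E g),
    (MulEquiv.prime_iff (MvPolynomial.mapEquiv (Fin n) (MulSemiringAction.toRingEquiv G E g))).2 p.2.1,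
    by rw [lc_map, p.2.2.1, map_one], (map_dvd _ p.2.2.2).trans (dvd_of_eq (hfix g))⟩
  one_smul p := Subtype.ext (by
    show p.1.map (MulSemiringAction.toRingHom G E 1) = p.1
    rw [show MulSemiringAction.toRingHom G E 1 = RingHom.id E from RingHom.ext fun x => one_smul G x]
    exact MvPolynomial.map_id p.1)
  mul_smul g g' p := Subtype.ext (by
    show p.1.map (MulSemiringAction.toRingHom G E (g * g')) =
      (p.1.map (MulSemiringAction.toRingHom G E g')).map (MulSemiringAction.toRingHom G E g)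
    rw [MvPolynomial.map_map, show MulSemiringAction.toRingHom G E (g * g') =
      (MulSemiringAction.toRingHom G E g).comp (MulSemiringAction.toRingHom G E g') from
        RingHom.ext fun x => mul_smul g g' x])

theorem not_dvd_C_mul_prod [Fintype (MonicDiv q)] {c : E} (hc : c ≠ 0) (e : MonicDiv q → ℕ) (p : MonicDiv q)
    (he : e p = 0) : ¬ p.1 ∣ C c * ∏ ξ, ξ.1 ^ e ξ := by
  intro h
  rcases p.2.1.dvd_or_dvd h with h | h
  · exact p.2.1.not_isUnit (isUnit_of_dvd_unit h ((isUnit_iff_ne_zero.2 hc).map C))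
  · obtain ⟨η, -, hη⟩ := (p.2.1.dvd_finsetProd_iff _).1 h
    by_cases h0 : e η = 0
    · rw [h0, pow_zero] at hη
      exact p.2.1.not_isUnit (isUnit_of_dvd_one hη)
    · have : p = η := Subtype.ext (eq_of_associated
        (p.2.1.irreducible.associated_of_dvd η.2.1.irreducible (p.2.1.dvd_of_dvd_pow hη)) p.2.2.1 η.2.2.1)
      exact h0 (this ▸ he)

theorem exists_eq_C_mul_prod [Fintype (MonicDiv q)] (hq : q ≠ 0) (p : MvPolynomial (Fin n) E) {N : ℕ}
    (hp : p ∣ q ^ N) : ∃ (c : E) (e : MonicDiv q → ℕ), c ≠ 0 ∧ p = C c * ∏ ξ, ξ.1 ^ e ξ := by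
  classical
  induction p using UniqueFactorizationMonoid.induction_on_prime with
  | h₁ => exact absurd (zero_dvd_iff.1 hp) (pow_ne_zero N hq)
  | h₂ p hu =>
    obtain ⟨c, hc, rfl⟩ := MvPolynomial.isUnit_iff_eq_C_of_isReduced.1 hu
    exact ⟨c, 0, hc.ne_zero, by simp⟩
  | h₃ a r ha hr ih =>
    obtain ⟨c, e, hc, rfl⟩ := ih ((dvd_mul_left a r).trans hp)
    have hlc : lc r ≠ 0 := MonomialOrder.leadingCoeff_ne_zero_iff.2 hr.ne_zero
    have hu : IsUnit (C (lc r)⁻¹ : MvPolynomial (Fin n) E) := (isUnit_iff_ne_zero.2 (inv_ne_zero hlc)).map C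
    let ξ₀ : MonicDiv q := ⟨r * C (lc r)⁻¹, (associated_mul_unit_right r _ hu).prime hr,
      by rw [lc_mul_C, mul_inv_cancel₀ hlc],
      hu.mul_right_dvd.2 (hr.dvd_of_dvd_pow ((dvd_mul_right r _).trans hp))⟩
    refine ⟨lc r * c, fun ξ => e ξ + if ξ = ξ₀ then 1 else 0, mul_ne_zero hlc hc, ?_⟩
    simp only [pow_add, Finset.prod_mul_distrib, pow_ite, pow_one, pow_zero, Finset.prod_ite_eq',
      Finset.mem_univ, if_true, map_mul]
    show _ = C (lc r) * C c * ((∏ x, x.1 ^ e x) * (r * C (lc r)⁻¹))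
    rw [show C (lc r) * C c * ((∏ x, x.1 ^ e x) * (r * C (lc r)⁻¹)) =
      (C (lc r) * C (lc r)⁻¹) * (r * (C c * ∏ x, x.1 ^ e x)) by ring, ← map_mul, mul_inv_cancel₀ hlc, map_one,
      one_mul]

theorem exponents_eq [Fintype (MonicDiv q)] {c c' : E} (hc : c ≠ 0) (hc' : c' ≠ 0) (e e' : MonicDiv q → ℕ)
    (h : C c * ∏ ξ, ξ.1 ^ e ξ = C c' * ∏ ξ, ξ.1 ^ e' ξ) : e = e' := by
  classical
  suffices key : ∀ (d d' : E), d ≠ 0 → d' ≠ 0 → ∀ (f f' : MonicDiv q → ℕ),
      C d * ∏ ξ, ξ.1 ^ f ξ = C d' * ∏ ξ, ξ.1 ^ f' ξ → f ≤ f' from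
    le_antisymm (key c c' hc hc' e e' h) (key c' c hc' hc e' e h.symm)
  intro d d' hd hd' f f' hf ξ
  by_contra hlt
  obtain ⟨k, hk⟩ := Nat.exists_eq_add_of_lt (lt_of_not_ge hlt)
  rw [← Finset.mul_prod_erase Finset.univ (fun z => z.1 ^ f z) (Finset.mem_univ ξ),
    ← Finset.mul_prod_erase Finset.univ (fun z => z.1 ^ f' z) (Finset.mem_univ ξ),
    hk, pow_succ, pow_add] at hf
  have hdvd : ξ.1 ∣ C d' * ∏ z ∈ Finset.univ.erase ξ, z.1 ^ f' z := by
    refine ⟨C d * ξ.1 ^ k * ∏ z ∈ Finset.univ.erase ξ, z.1 ^ f z, ?_⟩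
    refine mul_left_cancel₀ (pow_ne_zero (f' ξ) ξ.2.1.ne_zero) ?_
    linear_combination -hf
  refine not_dvd_C_mul_prod hd' (Function.update f' ξ 0) ξ (Function.update_self _ _ _) (hdvd.trans (dvd_of_eq ?_))
  rw [← Finset.mul_prod_erase Finset.univ (fun z => z.1 ^ Function.update f' ξ 0 z) (Finset.mem_univ ξ),
    Function.update_self, pow_zero, one_mul]
  exact congrArg _ (Finset.prod_congr rfl fun z hz => by rw [Function.update_of_ne (Finset.ne_of_mem_erase hz)])

variable {R : Type u} [CommRing R] [Algebra (MvPolynomial (Fin n) E) R] [IsLocalization.Away q R]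

variable (n R) in
/-- the constants as units -/
noncomputable abbrev constU : Eˣ →* Rˣ := Units.map ((algebraMap (MvPolynomial (Fin n) E) R).comp C).toMonoidHom

theorem isUnit_monicDiv (p : MonicDiv q) : IsUnit (algebraMap (MvPolynomial (Fin n) E) R p.1) :=
  isUnit_of_dvd_unit (map_dvd _ p.2.2.2) (IsLocalization.Away.algebraMap_isUnit q)

/-- the monic prime divisors as units -/
noncomputable abbrev divU (p : MonicDiv q) : Rˣ := (isUnit_monicDiv (R := R) p).unit

theorem exists_unit_decomp [Fintype (MonicDiv q)] (hq : q ≠ 0) (x : Rˣ) :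
    ∃ (c : Eˣ) (a : MonicDiv q → ℤ), x = constU n R c * ∏ ξ, divU ξ ^ a ξ := by
  let P := MvPolynomial (Fin n) E
  have hinj : Function.Injective (algebraMap P R) :=
    IsLocalization.injective R (powers_le_nonZeroDivisors_of_noZeroDivisors hq : Submonoid.powers q ≤ _)
  obtain ⟨⟨p, _, N, rfl⟩, hp⟩ := IsLocalization.surj (Submonoid.powers q) (x : R)
  obtain ⟨⟨p', _, M, rfl⟩, hp'⟩ := IsLocalization.surj (Submonoid.powers q) (↑x⁻¹ : R)
  have hdvd : p ∣ q ^ (N + M) := ⟨p', hinj (by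
    rw [map_mul, pow_add, map_mul]
    calc algebraMap P R (q ^ N) * algebraMap P R (q ^ M)
        = (x * ↑x⁻¹ : R) * (algebraMap P R (q ^ N) * algebraMap P R (q ^ M)) := by rw [Units.mul_inv, one_mul]
      _ = (x * algebraMap P R (q ^ N)) * (↑x⁻¹ * algebraMap P R (q ^ M)) := by ring
      _ = _ := by rw [hp, hp'])⟩
  obtain ⟨c, e, hc, rfl⟩ := exists_eq_C_mul_prod hq p hdvd
  obtain ⟨c', e', hc', hqN⟩ := exists_eq_C_mul_prod hq (q ^ N) (dvd_refl _)
  refine ⟨Units.mk0 c hc / Units.mk0 c' hc', fun ξ => (e ξ : ℤ) - e' ξ, ?_⟩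
  have hc2 : ∀ (d : E) (hd : d ≠ 0) (f : MonicDiv q → ℕ),
      algebraMap P R (C d * ∏ ξ, ξ.1 ^ f ξ) = ((constU n R (Units.mk0 d hd) * ∏ ξ, divU ξ ^ f ξ : Rˣ) : R) :=
    fun d hd f => by
      rw [map_mul, map_prod, Units.val_mul, Units.coe_prod]
      congr 1
      exact Finset.prod_congr rfl fun ξ _ => by rw [map_pow, Units.val_pow_eq_pow_val, IsUnit.unit_spec]
  have hx : x * (constU n R (Units.mk0 c' hc') * ∏ ξ, divU ξ ^ e' ξ) =
      constU n R (Units.mk0 c hc) * ∏ ξ, divU ξ ^ e ξ := by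
    apply Units.ext
    rw [Units.val_mul, ← hc2, ← hc2, ← hqN]
    exact hp
  rw [map_div, eq_div_of_mul_eq' hx, mul_div_mul_comm]
  congr 1
  rw [← Finset.prod_div_distrib]
  exact Finset.prod_congr rfl fun ξ _ => by rw [div_eq_mul_inv, ← zpow_natCast, ← zpow_natCast, ← zpow_sub]

theorem decomp_unique [Fintype (MonicDiv q)] (hq : q ≠ 0) {c c' : Eˣ} {a a' : MonicDiv q → ℤ}
    (h : (constU n R c * ∏ ξ, divU ξ ^ a ξ : Rˣ) = constU n R c' * ∏ ξ, divU ξ ^ a' ξ) : a = a' := by
  let P := MvPolynomial (Fin n) E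
  have hinj : Function.Injective (algebraMap P R) :=
    IsLocalization.injective R (powers_le_nonZeroDivisors_of_noZeroDivisors hq : Submonoid.powers q ≤ _)
  let e : MonicDiv q → ℕ := fun ξ => (a ξ - a' ξ).toNat
  let e' : MonicDiv q → ℕ := fun ξ => (a' ξ - a ξ).toNat
  have h1 : (constU n R c * ∏ ξ, divU ξ ^ e ξ : Rˣ) = constU n R c' * ∏ ξ, divU ξ ^ e' ξ := by
    have h2 : ∀ ξ, (e ξ : ℤ) - e' ξ = a ξ - a' ξ := fun ξ => by simp only [e, e']; omega
    have h3 : (constU n R c * ∏ ξ, divU ξ ^ a ξ : Rˣ) / (constU n R c' * ∏ ξ, divU ξ ^ a' ξ) = 1 := div_eq_one.2 h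
    rw [← div_eq_one, ← h3]
    simp only [mul_div_mul_comm, ← Finset.prod_div_distrib]
    congr 1
    refine Finset.prod_congr rfl fun ξ _ => ?_
    rw [← zpow_natCast, ← zpow_natCast, div_eq_mul_inv, div_eq_mul_inv, ← zpow_sub, ← zpow_sub, h2]
  have h4 := congrArg Units.val h1
  simp only [Units.val_mul, Units.coe_prod, Units.val_pow_eq_pow_val, IsUnit.unit_spec] at h4
  have h5 : C (c : E) * ∏ ξ, ξ.1 ^ e ξ = C (c' : E) * ∏ ξ, ξ.1 ^ e' ξ := hinj (by
    simpa [constU, map_prod] using h4)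
  have h6 := exponents_eq c.ne_zero c'.ne_zero e e' h5
  funext ξ
  have := congrFun h6 ξ
  simp only [e, e'] at this
  omega

/-- The exponents of an equivariant family of units, for the monic prime divisors. -/
theorem exists_exponents [Fintype (MonicDiv q)] (hq : q ≠ 0)
    (hfix : ∀ g : G, q.map (MulSemiringAction.toRingHom G E g) = q) {N : Type u} [CommGroup N]
    (act : G → N → N) (u : N →* Rˣ) (σR : G → R →+* R)
    (hσR : ∀ g p, σR g (algebraMap (MvPolynomial (Fin n) E) R p) =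
      algebraMap (MvPolynomial (Fin n) E) R (p.map (MulSemiringAction.toRingHom G E g)))
    (hu : ∀ g m, σR g (u m : R) = (u (act g m) : R)) :
    letI := monicDivAction hfix
    ∃ (a : Additive N →+ (MonicDiv q → ℤ)) (c : N → Eˣ),
      (∀ m, u m = constU n R (c m) * ∏ ξ, divU ξ ^ a (Additive.ofMul m) ξ) ∧
      ∀ g m ξ, a (Additive.ofMul (act g m)) ξ = a (Additive.ofMul m) (g⁻¹ • ξ) := by
  letI := monicDivAction hfix
  choose c e hce using fun m => exists_unit_decomp (R := R) hq (u m)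
  have hadd : ∀ m m' : N, e (m * m') = e m + e m' := by
    intro m m'
    refine decomp_unique (R := R) hq (c := c (m * m')) (c' := c m * c m') ?_
    rw [← hce, map_mul u, hce m, hce m', map_mul (constU n R)]
    simp only [Pi.add_apply, zpow_add, Finset.prod_mul_distrib]
    exact mul_mul_mul_comm _ _ _ _
  refine ⟨AddMonoidHom.mk' (fun m => e m.toMul) fun m m' => hadd m.toMul m'.toMul, c, hce, ?_⟩
  intro g m ξ
  have hσd : ∀ ξ : MonicDiv q, Units.map (σR g : R →* R) (divU ξ) = divU (g • ξ) := fun ξ => Units.ext (by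
    show σR g (algebraMap _ R ξ.1) = algebraMap _ R (g • ξ).1
    rw [hσR]
    rfl)
  have hσc : Units.map (σR g : R →* R) (constU n R (c m)) =
      constU n R (Units.map (MulSemiringAction.toRingHom G E g : E →* E) (c m)) := Units.ext (by
    show σR g (algebraMap _ R (C (c m : E))) = algebraMap _ R (C (MulSemiringAction.toRingHom G E g (c m : E)))
    rw [hσR, MvPolynomial.map_C])
  have h1 : Units.map (σR g : R →* R) (u m) = u (act g m) := Units.ext (hu g m)
  rw [hce m, map_mul, map_prod, hce (act g m), hσc] at h1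
  simp only [map_zpow, hσd] at h1
  rw [← Equiv.prod_comp (MulAction.toPerm g⁻¹) (fun ξ => divU (g • ξ) ^ e m ξ)] at h1
  simp only [MulAction.toPerm_apply, smul_inv_smul] at h1
  exact (congrFun (decomp_unique hq h1) ξ).symm

end Groth.Misc15.RatTorus
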