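import Groth.Agent.Misc15.RatTorus.Descent

/-!
The product of two split forms inside the group algebra of the product.
-/

set_option autoImplicit false
set_option linter.style.haveILetI false

universe u

open TensorProduct MonoidAlgebra

noncomputable section

namespace Groth.Misc15.RatTorus

variable {k E : Type u} [Field k] [Field E] [Algebra k E] {M N : Type u} [CommGroup M] [CommGroup N]
  {A B : Type u} [CommRing A] [Algebra k A] [CommRing B] [Algebra k B]
  (eA : E ⊗[k] A ≃ₐ[E] MonoidAlgebra E M) (eB : E ⊗[k] B ≃ₐ[E] MonoidAlgebra E N)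

/-- first inclusion -/
def inlA : MonoidAlgebra E M →ₐ[E] MonoidAlgebra E (M × N) :=
  MonoidAlgebra.mapDomainAlgHom E E (MonoidHom.inl M N)

/-- second inclusion -/
def inrA : MonoidAlgebra E N →ₐ[E] MonoidAlgebra E (M × N) :=
  MonoidAlgebra.mapDomainAlgHom E E (MonoidHom.inr M N)

theorem inlA_single (m : M) (c : E) : inlA (N := N) (single m c) = single (m, 1) c := by simp [inlA]

theorem inrA_single (n : N) (c : E) : inrA (M := M) (single n c) = single (1, n) c := by simp [inrA]

/-- the functions of a split form, in the group algebra -/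
def jOf : A →ₐ[k] MonoidAlgebra E M :=
  ((eA : E ⊗[k] A →ₐ[E] MonoidAlgebra E M).restrictScalars k).comp Algebra.TensorProduct.includeRight

theorem jOf_apply (a : A) : jOf eA a = eA (1 ⊗ₜ a) := rfl

theorem eA_tmul (c : E) (a : A) : eA (c ⊗ₜ a) = c • jOf eA a := by
  rw [jOf_apply, ← map_smul, TensorProduct.smul_tmul', smul_eq_mul, mul_one]

theorem jOf_injective : Function.Injective (jOf eA) := fun a b h =>
  Algebra.TensorProduct.includeRight_injective (algebraMap k E).injective (eA.injective h)

/-- the functions of a product -/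
def prodJ : A ⊗[k] B →ₐ[k] MonoidAlgebra E (M × N) :=
  Algebra.TensorProduct.productMap (((inlA (N := N)).restrictScalars k).comp (jOf eA))
    (((inrA (M := M)).restrictScalars k).comp (jOf eB))

theorem prodJ_tmul (a : A) (b : B) : prodJ eA eB (a ⊗ₜ b) = inlA (jOf eA a) * inrA (jOf eB b) := by
  simp [prodJ]

theorem prodJ_injective : Function.Injective (prodJ eA eB) := by
  let bM : Module.Basis M E (MonoidAlgebra E M) := Module.Basis.ofRepr (MonoidAlgebra.coeffLinearEquiv E)
  let bN : Module.Basis N E (MonoidAlgebra E N) := Module.Basis.ofRepr (MonoidAlgebra.coeffLinearEquiv E)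
  let b2 : Module.Basis (M × N) E (MonoidAlgebra E (M × N)) :=
    Module.Basis.ofRepr (MonoidAlgebra.coeffLinearEquiv E)
  let e := (bM.tensorProduct bN).equiv b2 (Equiv.refl _)
  have hbM : ∀ m, bM m = single m 1 := fun m => bM.repr.injective (by simp [bM])
  have hbN : ∀ m, bN m = single m 1 := fun m => bN.repr.injective (by simp [bN])
  have hb2 : ∀ m, b2 m = single m 1 := fun m => b2.repr.injective (by simp [b2])
  have he : ∀ (x : MonoidAlgebra E M) (y : MonoidAlgebra E N), e (x ⊗ₜ y) = inlA x * inrA y := by
    intro x y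
    have h : (Algebra.TensorProduct.lift (inlA (E := E) (M := M) (N := N)) inrA fun _ _ => Commute.all _ _).toLinearMap =
        e.toLinearMap := (bM.tensorProduct bN).ext fun p => by
      rw [LinearEquiv.coe_coe, Module.Basis.equiv_apply, Module.Basis.tensorProduct_apply, hbM, hbN]
      show Algebra.TensorProduct.lift (inlA (E := E) (M := M) (N := N)) inrA (fun _ _ => Commute.all _ _) (single p.1 (1 : E) ⊗ₜ single p.2 1) = _
      rw [Algebra.TensorProduct.lift_tmul, hb2, inlA_single, inrA_single, MonoidAlgebra.single_mul_single]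
      simp
    have := LinearMap.congr_fun h (x ⊗ₜ y)
    simpa using this.symm
  let E2 : E ⊗[k] (A ⊗[k] B) ≃ₗ[E] MonoidAlgebra E (M × N) :=
    ((TensorProduct.AlgebraTensorModule.distribBaseChange k E A B).trans
      (TensorProduct.congr eA.toLinearEquiv eB.toLinearEquiv)).trans e
  have hE2 : ∀ z, E2 (1 ⊗ₜ z) = prodJ eA eB z := fun z => by
    induction z using TensorProduct.induction_on with
    | zero => simp
    | add a b ha hb => simp only [TensorProduct.tmul_add, map_add, ha, hb]
    | tmul a b =>
      show e (TensorProduct.congr eA.toLinearEquiv eB.toLinearEquiv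
        (TensorProduct.AlgebraTensorModule.distribBaseChange k E A B ((1 : E) ⊗ₜ (a ⊗ₜ b)))) = _
      rw [TensorProduct.AlgebraTensorModule.distribBaseChange_tmul, TensorProduct.congr_tmul,
        prodJ_tmul, ← he]
      rfl
  intro x y h
  rw [← hE2, ← hE2] at h
  exact Algebra.TensorProduct.includeRight_injective (algebraMap k E).injective (E2.injective h)

theorem mem_adjoin_prodJ (x : MonoidAlgebra E (M × N)) : x ∈ Algebra.adjoin E (Set.range (prodJ eA eB)) := by
  have hM : ∀ y, inlA (N := N) y ∈ Algebra.adjoin E (Set.range (prodJ eA eB)) := fun y => by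
    obtain ⟨z, rfl⟩ := eA.surjective y
    induction z using TensorProduct.induction_on with
    | zero => simp
    | add a b ha hb => simp only [map_add]; exact add_mem ha hb
    | tmul c a =>
      rw [eA_tmul, map_smul]
      exact Subalgebra.smul_mem _ (Algebra.subset_adjoin (R := E) (s := Set.range (prodJ eA eB)) ⟨a ⊗ₜ 1, by simp [prodJ_tmul]⟩) c
  have hN : ∀ y, inrA (M := M) y ∈ Algebra.adjoin E (Set.range (prodJ eA eB)) := fun y => by
    obtain ⟨z, rfl⟩ := eB.surjective y
    induction z using TensorProduct.induction_on with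
    | zero => simp
    | add a b ha hb => simp only [map_add]; exact add_mem ha hb
    | tmul c b =>
      rw [eA_tmul, map_smul]
      exact Subalgebra.smul_mem _ (Algebra.subset_adjoin (R := E) (s := Set.range (prodJ eA eB)) ⟨1 ⊗ₜ b, by simp [prodJ_tmul]⟩) c
  induction x using MonoidAlgebra.induction_linear with
  | zero => exact zero_mem _
  | add a b ha hb => exact add_mem ha hb
  | single p c =>
    have : single p c = inlA (single p.1 c) * inrA (single p.2 1) := by
      simp [inlA_single, inrA_single]
    rw [this]
    exact mul_mem (hM _) (hN _)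

variable (ρ : (E ≃ₐ[k] E) →* (M ≃* M)) (ρ' : (E ≃ₐ[k] E) →* (N ≃* N))

/-- the action on a product -/
def prodAct : (E ≃ₐ[k] E) →* (M × N ≃* M × N) :=
  MonoidHom.mk' (fun g => MulEquiv.prodCongr (ρ g) (ρ' g)) fun a b => MulEquiv.ext fun p => by
    rw [map_mul, map_mul]; rfl

theorem galAlg_inlA (g : E ≃ₐ[k] E) (x : MonoidAlgebra E M) :
    galAlg (prodAct ρ ρ') g (inlA x) = inlA (galAlg ρ g x) := by
  induction x using MonoidAlgebra.induction_linear with
  | zero => simp
  | add a b ha hb => simp only [map_add, ha, hb]
  | single m r => simp [inlA_single, galAlg_single, prodAct, MulEquiv.prodCongr]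

theorem galAlg_inrA (g : E ≃ₐ[k] E) (x : MonoidAlgebra E N) :
    galAlg (prodAct ρ ρ') g (inrA x) = inrA (galAlg ρ' g x) := by
  induction x using MonoidAlgebra.induction_linear with
  | zero => simp
  | add a b ha hb => simp only [map_add, ha, hb]
  | single m r => simp [inrA_single, galAlg_single, prodAct, MulEquiv.prodCongr]

theorem galAlg_prodJ (hA : ∀ g a, galAlg ρ g (jOf eA a) = jOf eA a)
    (hB : ∀ g b, galAlg ρ' g (jOf eB b) = jOf eB b) (g : E ≃ₐ[k] E) (z : A ⊗[k] B) :
    galAlg (prodAct ρ ρ') g (prodJ eA eB z) = prodJ eA eB z := by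
  induction z using TensorProduct.induction_on with
  | zero => simp
  | add a b ha hb => simp only [map_add, ha, hb]
  | tmul a b => rw [prodJ_tmul, map_mul, galAlg_inlA, galAlg_inrA, hA, hB]

end Groth.Misc15.RatTorus
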