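import Groth.Agent.Misc15.RatTorus.Lattice
import Groth.Agent.Misc15.RatTorus.MonicPrimes
import Groth.Agent.Misc15.RatTorus.Product

/-!
A retraction through an open of affine space gives an equivariant monomial section.
-/

set_option autoImplicit false
set_option linter.style.haveILetI false

universe u

open TensorProduct

noncomputable section

namespace Groth.Misc15.RatTorus

variable {k E : Type u} [Field k] [Field E] [Algebra k E] {N : Type u} [CommGroup N]

theorem galAlg_smul (ρ : (E ≃ₐ[k] E) →* (N ≃* N)) (g : E ≃ₐ[k] E) (c : E) (x : MonoidAlgebra E N) :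
    galAlg ρ g (c • x) = g c • galAlg ρ g x := by
  rw [Algebra.smul_def, Algebra.smul_def, map_mul]
  congr 1
  simp [MonoidAlgebra.coe_algebraMap, galAlg_single]

theorem galAlg_eA {A : Type u} [CommRing A] [Algebra k A] (ρ : (E ≃ₐ[k] E) →* (N ≃* N))
    (eA : E ⊗[k] A ≃ₐ[E] MonoidAlgebra E N) (hA : ∀ g a, galAlg ρ g (jOf eA a) = jOf eA a)
    (g : E ≃ₐ[k] E) (z : E ⊗[k] A) :
    galAlg ρ g (eA z) = eA (Algebra.TensorProduct.map (g : E →ₐ[k] E) (AlgHom.id k A) z) := by
  induction z using TensorProduct.induction_on with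
  | zero => simp
  | add a b ha hb => simp only [map_add, ha, hb]
  | tmul c a => rw [Algebra.TensorProduct.map_tmul, eA_tmul, eA_tmul, galAlg_smul, hA]; rfl

variable [FiniteDimensional k E] [IsGalois k E] [Module.Finite ℤ (Additive N)] [Module.Free ℤ (Additive N)]
  {F : Type u} [Field F] [Algebra k F] [Algebra E F] [IsScalarTower k E F]

/-- The monomial section attached to a lift through an open of affine space. -/
theorem exists_section (T : (E ≃ₐ[k] E) →* (F ≃+* F)) (hT : ∀ g c, T g (algebraMap E F c) = algebraMap E F (g c))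
    {A : Type u} [CommRing A] [Algebra k A] (ρ : (E ≃ₐ[k] E) →* (N ≃* N))
    (eA : E ⊗[k] A ≃ₐ[E] MonoidAlgebra E N) (hA : ∀ g a, galAlg ρ g (jOf eA a) = jOf eA a)
    (ι : MonoidAlgebra E N →ₐ[E] F) (hι : ∀ g x, T g (ι x) = ι (galAlg ρ g x))
    {n : ℕ} (Q : MvPolynomial (Fin n) k) (hQ : Q ≠ 0)
    (φ : A →ₐ[k] Localization.Away Q) (a : Localization.Away Q →ₐ[k] F) (haφ : ∀ x, a (φ x) = ι (jOf eA x))
    (hafix : ∀ g x, T g (a x) = a x)
    (ha : ∀ x, a x ∈ IntermediateField.adjoin E (Set.range ι)) :
    ∃ (X : Type u) (_ : Finite X) (_ : MulAction (E ≃ₐ[k] E) X) (i : Additive N →+ (X → ℤ))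
      (r : (X → ℤ) →+ Additive N) (s : Multiplicative (X → ℤ) →* Fˣ),
      (∀ m, r (i m) = m) ∧
      (∀ (g : E ≃ₐ[k] E) (m : N) (x : X),
        i (Additive.ofMul (ρ g m)) x = i (Additive.ofMul m) (g⁻¹ • x)) ∧
      (∀ (g : E ≃ₐ[k] E) (q : X → ℤ),
        T g (s (Multiplicative.ofAdd q) : F) = (s (Multiplicative.ofAdd fun x => q (g⁻¹ • x)) : F)) ∧
      (∀ m : N, ∃ c : E, algebraMap E F c * (s (Multiplicative.ofAdd (i (Additive.ofMul m))) : F) =
        ι (MonoidAlgebra.single m 1)) ∧
      ∀ q, (s q : F) ∈ IntermediateField.adjoin E (Set.range ι) := by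
  classical
  let qE := MvPolynomial.map (algebraMap k E) Q
  have hqE : qE ≠ 0 := (map_ne_zero_iff _ (MvPolynomial.map_injective _ (algebraMap k E).injective)).2 hQ
  let R := Localization.Away qE
  -- the lift
  let b₀ : MvPolynomial (Fin n) k →ₐ[k] R :=
    MvPolynomial.aeval fun i => algebraMap (MvPolynomial (Fin n) E) R (MvPolynomial.X i)
  have hb₀ : ∀ p, b₀ p = algebraMap (MvPolynomial (Fin n) E) R (MvPolynomial.map (algebraMap k E) p) := fun p => by
    induction p using MvPolynomial.induction_on with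
    | C c =>
      simp only [b₀, MvPolynomial.aeval_C, MvPolynomial.map_C]
      rw [IsScalarTower.algebraMap_apply k E R, IsScalarTower.algebraMap_apply E (MvPolynomial (Fin n) E) R]
      rfl
    | add p q hp hq => simp only [map_add, hp, hq]
    | mul_X p i hp =>
      rw [map_mul, hp, map_mul, map_mul, MvPolynomial.map_X]
      simp [b₀]
  have hb₀u : ∀ y : Submonoid.powers Q, IsUnit (b₀ y) := by
    rintro ⟨_, i, rfl⟩
    simp only [map_pow, hb₀]
    exact (IsLocalization.Away.algebraMap_isUnit qE).pow i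
  let bR : Localization.Away Q →ₐ[k] R := IsLocalization.liftAlgHom (M := Submonoid.powers Q) (f := b₀) hb₀u
  have hbR : ∀ p, bR (algebraMap _ _ p) = b₀ p := fun p => by
    simp [bR, IsLocalization.coe_liftAlgHom, IsLocalization.lift_eq]
  let η₀ : E ⊗[k] A →ₐ[E] R :=
    Algebra.TensorProduct.lift (Algebra.ofId E R) (bR.comp φ) fun _ _ => Commute.all _ _
  let η : N →* Rˣ := MonoidHom.toHomUnits
    (((η₀.comp (eA.symm : MonoidAlgebra E N →ₐ[E] E ⊗[k] A)) : MonoidAlgebra E N →* R).comp (MonoidAlgebra.of E N))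
  have hηval : ∀ m, (η m : R) = η₀ (eA.symm (MonoidAlgebra.single m 1)) := fun m => rfl
  -- the projection
  let v : Fin n → F := fun i => a (algebraMap (MvPolynomial (Fin n) k) (Localization.Away Q) (MvPolynomial.X i))
  let AR₀ : MvPolynomial (Fin n) E →ₐ[E] F := MvPolynomial.aeval v
  have hAR₀ : ∀ p, AR₀ (MvPolynomial.map (algebraMap k E) p) = a (algebraMap _ _ p) := fun p => by
    induction p using MvPolynomial.induction_on with
    | C c =>
      rw [MvPolynomial.map_C]
      show MvPolynomial.aeval v (MvPolynomial.C (algebraMap k E c)) =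
        a (algebraMap (MvPolynomial (Fin n) k) _ (algebraMap k (MvPolynomial (Fin n) k) c))
      rw [MvPolynomial.aeval_C, ← IsScalarTower.algebraMap_apply k (MvPolynomial (Fin n) k), a.commutes,
        ← IsScalarTower.algebraMap_apply]
    | add p q hp hq => simp only [map_add, hp, hq]
    | mul_X p i hp =>
      simp only [map_mul, hp, MvPolynomial.map_X]
      rw [show AR₀ (MvPolynomial.X i) = v i from MvPolynomial.aeval_X v i]
  have hAR₀u : ∀ y : Submonoid.powers qE, IsUnit (AR₀ y) := by
    rintro ⟨_, i, rfl⟩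
    simp only [map_pow, qE, hAR₀]
    exact (((IsLocalization.Away.algebraMap_isUnit Q).map a)).pow i
  let AR : R →ₐ[E] F := IsLocalization.liftAlgHom (M := Submonoid.powers qE) (f := AR₀) hAR₀u
  have hARp : ∀ p, AR (algebraMap _ _ p) = AR₀ p := fun p => by
    simp [AR, IsLocalization.coe_liftAlgHom, IsLocalization.lift_eq]
  have hARb : ∀ x, AR (bR x) = a x := by
    intro x
    have : (AR.restrictScalars k).comp bR = a :=
      IsLocalization.algHom_ext (Submonoid.powers Q) (MvPolynomial.algHom_ext fun i => by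
        show AR (bR (algebraMap _ _ (MvPolynomial.X i))) = a (algebraMap _ _ (MvPolynomial.X i))
        rw [hbR, hb₀, hARp, hAR₀])
    exact AlgHom.congr_fun this x
  have hARη : ∀ z, AR (η₀ z) = ι (eA z) := fun z => by
    induction z using TensorProduct.induction_on with
    | zero => simp
    | add p q hp hq => simp only [map_add, hp, hq]
    | tmul c x =>
      rw [eA_tmul, map_smul, Algebra.TensorProduct.lift_tmul, map_mul, AlgHom.comp_apply, hARb, haφ,
        Algebra.smul_def]
      exact congrArg (· * _) (AR.commutes c)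
  -- the Galois action
  have hfixQ : ∀ g : E ≃ₐ[k] E, qE.map (MulSemiringAction.toRingHom (E ≃ₐ[k] E) E g) = qE := fun g => by
    show (MvPolynomial.map (algebraMap k E) Q).map _ = MvPolynomial.map (algebraMap k E) Q
    rw [MvPolynomial.map_map]
    congr 2
    exact RingHom.ext fun c => g.commutes c
  letI := monicDivAction hfixQ
  haveI := finite_monicDiv hqE
  haveI := Fintype.ofFinite (MonicDiv qE)
  let σ₀ : (E ≃ₐ[k] E) → (MvPolynomial (Fin n) E →+* R) := fun g =>
    (algebraMap (MvPolynomial (Fin n) E) R).comp (MvPolynomial.map (MulSemiringAction.toRingHom (E ≃ₐ[k] E) E g))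
  have hσ₀u : ∀ g (y : Submonoid.powers qE), IsUnit (σ₀ g y) := by
    rintro g ⟨_, i, rfl⟩
    simp only [σ₀, map_pow, RingHom.comp_apply, hfixQ]
    exact (IsLocalization.Away.algebraMap_isUnit qE).pow i
  let σR : (E ≃ₐ[k] E) → (R →+* R) := fun g => IsLocalization.lift (M := Submonoid.powers qE) (hσ₀u g)
  have hσp : ∀ (g : E ≃ₐ[k] E) (p : MvPolynomial (Fin n) E), σR g (algebraMap (MvPolynomial (Fin n) E) R p) =
      algebraMap (MvPolynomial (Fin n) E) R (MvPolynomial.map (MulSemiringAction.toRingHom (E ≃ₐ[k] E) E g) p) := fun g p => by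
    simp [σR, σ₀, IsLocalization.lift_eq]
  have hσc : ∀ g c, σR g (algebraMap E R c) = algebraMap E R (g c) := fun g c => by
    rw [IsScalarTower.algebraMap_apply E (MvPolynomial (Fin n) E) R, hσp, MvPolynomial.algebraMap_eq,
      MvPolynomial.map_C, IsScalarTower.algebraMap_apply E (MvPolynomial (Fin n) E) R]
    rfl
  have hTAR : ∀ g x, T g (AR x) = AR (σR g x) := by
    intro g x
    have : ((T g : F →+* F)).comp (AR : R →+* F) = (AR : R →+* F).comp (σR g) :=
      IsLocalization.ringHom_ext (Submonoid.powers qE) (MvPolynomial.ringHom_ext (fun c => by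
        show T g (AR (algebraMap (MvPolynomial (Fin n) E) R (MvPolynomial.C c))) =
          AR (σR g (algebraMap (MvPolynomial (Fin n) E) R (MvPolynomial.C c)))
        rw [hσp, MvPolynomial.map_C, hARp, hARp]
        simp only [AR₀, MvPolynomial.aeval_C]
        exact hT g c) (fun i => by
        show T g (AR (algebraMap (MvPolynomial (Fin n) E) R (MvPolynomial.X i))) =
          AR (σR g (algebraMap (MvPolynomial (Fin n) E) R (MvPolynomial.X i)))
        rw [hσp, MvPolynomial.map_X, hARp]
        simp only [AR₀, MvPolynomial.aeval_X]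
        exact hafix g _))
    exact RingHom.congr_fun this x
  have hσb : ∀ g x, σR g (bR x) = bR x := by
    intro g x
    have : (σR g).comp (bR : Localization.Away Q →+* R) = bR :=
      IsLocalization.ringHom_ext (Submonoid.powers Q) (RingHom.ext fun p => by
        show σR g (bR (algebraMap _ _ p)) = bR (algebraMap _ _ p)
        rw [hbR, hb₀, hσp, MvPolynomial.map_map,
          show (MulSemiringAction.toRingHom (E ≃ₐ[k] E) E g).comp (algebraMap k E) = algebraMap k E from
            RingHom.ext fun c => g.commutes c])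
    exact RingHom.congr_fun this x
  have hση₀ : ∀ g z, σR g (η₀ z) = η₀ (Algebra.TensorProduct.map (g : E →ₐ[k] E) (AlgHom.id k A) z) := fun g z => by
    induction z using TensorProduct.induction_on with
    | zero => simp
    | add p q hp hq => simp only [map_add, hp, hq]
    | tmul c x =>
      rw [Algebra.TensorProduct.map_tmul, Algebra.TensorProduct.lift_tmul, Algebra.TensorProduct.lift_tmul,
        map_mul, AlgHom.comp_apply, hσb]
      exact congrArg (· * _) (hσc g c)
  have hση : ∀ (g : E ≃ₐ[k] E) (m : N), σR g (η m : R) = (η (ρ g m) : R) := fun g m => by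
    rw [hηval, hηval, hση₀]
    congr 1
    apply eA.injective
    rw [← galAlg_eA ρ eA hA, AlgEquiv.apply_symm_apply, AlgEquiv.apply_symm_apply, galAlg_single, map_one]
  obtain ⟨aL, c, hce, he_eq⟩ := exists_exponents (R := R) hqE hfixQ (fun g m => ρ g m) η σR hσp hση
  letI : DistribMulAction (E ≃ₐ[k] E) (Additive N) :=
    { smul := fun g m => Additive.ofMul (ρ g m.toMul)
      one_smul := fun m => by
        show Additive.ofMul (ρ 1 m.toMul) = m
        rw [map_one]; rfl
      mul_smul := fun g g' m => by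
        show Additive.ofMul (ρ (g * g') m.toMul) = Additive.ofMul (ρ g (ρ g' m.toMul))
        rw [map_mul]; rfl
      smul_zero := fun g => by
        show Additive.ofMul (ρ g 1) = Additive.ofMul 1
        rw [map_one]
      smul_add := fun g m m' => by
        show Additive.ofMul (ρ g (m.toMul * m'.toMul)) = Additive.ofMul (ρ g m.toMul * ρ g m'.toMul)
        rw [map_mul] }
  obtain ⟨X, _, _, i, r, hri, hi, hext⟩ := exists_cover (E ≃ₐ[k] E) (Additive N)
  obtain ⟨a', ha'eq, ha'i⟩ := hext (MonicDiv qE) aL fun g m ξ => he_eq g m.toMul ξ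
  let ν : MonicDiv qE → Fˣ := fun ξ => Units.map (AR : R →* F) (divU ξ)
  let s : Multiplicative (X → ℤ) →* Fˣ :=
    MonoidHom.mk' (fun q => ∏ ξ, ν ξ ^ a' q.toAdd ξ) fun p q => by
      simp only [toAdd_mul, map_add, Pi.add_apply, zpow_add, Finset.prod_mul_distrib]
  have hνT : ∀ g ξ, Units.map (T g : F →* F) (ν ξ) = ν (g • ξ) := fun g ξ => Units.ext (by
    show T g (AR (algebraMap _ R ξ.1)) = AR (algebraMap _ R (g • ξ).1)
    rw [hTAR, hσp]
    rfl)
  refine ⟨X, inferInstance, inferInstance, i, r, s, hri, fun g m x => hi g (Additive.ofMul m) x,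
    fun g q => ?_, fun m => ?_, fun q => ?_⟩
  · have : Units.map (T g : F →* F) (s (Multiplicative.ofAdd q)) =
        s (Multiplicative.ofAdd fun x => q (g⁻¹ • x)) := by
      show Units.map (T g : F →* F) (∏ ξ, ν ξ ^ a' q ξ) = ∏ ξ, ν ξ ^ a' (fun x => q (g⁻¹ • x)) ξ
      rw [map_prod]
      simp only [map_zpow, hνT, ha'eq]
      exact Fintype.prod_equiv (MulAction.toPerm g) _ _ fun ξ => by
        simp only [MulAction.toPerm_apply, inv_smul_smul]
    exact congrArg Units.val this
  · refine ⟨(c m : E), ?_⟩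
    have h1 := congrArg (fun x : Rˣ => AR (x : R)) (hce m)
    simp only [hηval, hARη, AlgEquiv.apply_symm_apply, Units.val_mul, map_mul] at h1
    rw [h1]
    congr 1
    · show _ = AR (algebraMap (MvPolynomial (Fin n) E) R (MvPolynomial.C (c m : E)))
      rw [hARp]
      exact (MvPolynomial.aeval_C v (c m : E)).symm
    · show ((∏ ξ, ν ξ ^ a' (i (Additive.ofMul m)) ξ : Fˣ) : F) = _
      rw [ha'i, ← AlgHom.coe_toMonoidHom AR, ← Units.coe_map, map_prod]
      simp only [map_zpow]
      rfl
  · have hK : ∀ p, AR₀ p ∈ IntermediateField.adjoin E (Set.range ι) := fun p => by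
      induction p using MvPolynomial.induction_on with
      | C c => simp only [AR₀, MvPolynomial.aeval_C]; exact IntermediateField.algebraMap_mem _ c
      | add p q hp hq => rw [map_add]; exact add_mem hp hq
      | mul_X p i hp => rw [map_mul]; exact mul_mem hp (by simp only [AR₀, MvPolynomial.aeval_X]; exact ha _)
    show ((∏ ξ, ν ξ ^ a' q.toAdd ξ : Fˣ) : F) ∈ _
    rw [Units.coe_prod]
    refine prod_mem fun ξ _ => ?_
    rw [Units.val_zpow_eq_zpow_val]
    refine zpow_mem ?_ _
    show AR (algebraMap _ R ξ.1) ∈ _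
    rw [hARp]
    exact hK _

end Groth.Misc15.RatTorus
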